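import Cfsg.Agent.Omega.HT.TVS

/-!
# SN.Two / LightL, (T) for `N = 4`: no induced transvection with light centre (#22246 (2), helper237; short proof helper670)

`TV.Sys ρ Om`, vectors `x i j` (`i, j : Fin 4`) with `x i j + x j k = x i k` permuted by the group like the pairs of
letters, `z = x 0 1 + x 2 3 ≠ 0` fixed by the group: then `x 0 1 ∉ Om`.
-/

set_option autoImplicit false

namespace Cfsg.Agent.Omega.NO3S.SN2.Light

open Module Cfsg.Agent.Omega.TV Cfsg.Agent.Omega.TV.Sys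

variable {H : Type*} [Group H] {V : Type*} [AddCommGroup V] [Module (ZMod 2) V]
  {ρ : H →* (V ≃ₗ[ZMod 2] V)} {Om : Set V}

/-- a functional of an induced transvection kills a fixed vector -/
theorem fn_fixed {r z : V} (hr : r ≠ 0) (hfix : ∀ g : H, ρ g z = z) {φ : Dual (ZMod 2) V} (hF : Fn ρ r φ) :
    φ z = 0 := by
  obtain ⟨-, g, hg⟩ := hF
  refine z2_ne_one fun e => hr ?_
  have h1 := hg z
  rw [hfix g, e, one_smul] at h1
  exact left_eq_add.mp h1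

/-- **(T), `N = 4`** -/
theorem no_light_four [Finite V] (h : Sys ρ Om) (x : Fin 4 → Fin 4 → V)
    (hadd : ∀ i j k, x i j + x j k = x i k)
    (hfull : ∀ σ : Equiv.Perm (Fin 4), ∃ g : H, ∀ i j, ρ g (x i j) = x (σ i) (σ j))
    (hfix : ∀ g : H, ρ g (x 0 1 + x 2 3) = x 0 1 + x 2 3) (hz : x 0 1 + x 2 3 ≠ 0) (h01 : x 0 1 ∈ Om) : False := by
  have hii : ∀ i, x i i = 0 := fun i => by
    have h1 := hadd i i i
    exact add_eq_left.mp h1
  have hsym : ∀ i j, x i j = x j i := fun i j => v_eq_of_add (by rw [hadd, hii])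
  have hOm : ∀ (σ : Equiv.Perm (Fin 4)), x (σ 0) (σ 1) ∈ Om := by
    intro σ
    obtain ⟨g, hg⟩ := hfull σ
    rw [← hg]
    exact h.inv g _ h01
  have m12 : x 1 2 ∈ Om := by
    obtain ⟨σ, e1, e2⟩ : ∃ σ : Equiv.Perm (Fin 4), σ 0 = 1 ∧ σ 1 = 2 := by decide
    rw [← e1, ← e2]; exact hOm σ
  have m23 : x 2 3 ∈ Om := by
    obtain ⟨σ, e1, e2⟩ : ∃ σ : Equiv.Perm (Fin 4), σ 0 = 2 ∧ σ 1 = 3 := by decide
    rw [← e1, ← e2]; exact hOm σ
  have m02 : x 0 2 ∈ Om := by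
    obtain ⟨σ, e1, e2⟩ : ∃ σ : Equiv.Perm (Fin 4), σ 0 = 0 ∧ σ 1 = 2 := by decide
    have := hOm σ
    rwa [e1, e2] at this
  have nconj : ∀ (σ : Equiv.Perm (Fin 4)) {a b c d : Fin 4}, Near ρ Om (x a b) (x c d) →
      Near ρ Om (x (σ a) (σ b)) (x (σ c) (σ d)) := by
    rintro σ a b c d ⟨v, hv, h1, h2⟩
    obtain ⟨g, hg⟩ := hfull σ
    rw [← hg, ← hg]
    exact ⟨ρ g v, h.inv g v hv, h1.conj g, h2.conj g⟩
  -- (A)
  have hA : Near ρ Om (x 0 1) (x 2 3) := by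
    have key : Near ρ Om (x 0 1) (x 0 2) ∧ Near ρ Om (x 0 2) (x 2 3) := by
      obtain ⟨v, hv, hav⟩ := h.exists_adj m12
      obtain ⟨φ, hφ, h1⟩ := h.symm m12 hv hav
      rw [← hadd 1 0 2, map_add] at h1
      rcases z2 (φ (x 1 0)) with h2 | h2
      · rw [h2, zero_add] at h1
        have hn : Near ρ Om (x 2 1) (x 2 0) := by
          rw [hsym 2 1, hsym 2 0]
          exact ⟨v, hv, hav, φ, hφ, h1⟩
        constructor
        · obtain ⟨σ, e1, e2, e3⟩ : ∃ σ : Equiv.Perm (Fin 4), σ 2 = 0 ∧ σ 1 = 1 ∧ σ 0 = 2 := by decide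
          have := nconj σ hn
          rwa [e1, e2, e3] at this
        · obtain ⟨σ, e1, e2, e3⟩ : ∃ σ : Equiv.Perm (Fin 4), σ 2 = 2 ∧ σ 1 = 0 ∧ σ 0 = 3 := by decide
          have := nconj σ hn
          rwa [e1, e2, e3, hsym 2 0] at this
      · have hn : Near ρ Om (x 1 2) (x 1 0) := ⟨v, hv, hav, φ, hφ, h2⟩
        constructor
        · obtain ⟨σ, e1, e2, e3⟩ : ∃ σ : Equiv.Perm (Fin 4), σ 1 = 0 ∧ σ 2 = 1 ∧ σ 0 = 2 := by decide
          have := nconj σ hn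
          rwa [e1, e2, e3] at this
        · obtain ⟨σ, e1, e2, e3⟩ : ∃ σ : Equiv.Perm (Fin 4), σ 1 = 2 ∧ σ 2 = 0 ∧ σ 0 = 3 := by decide
          have := nconj σ hn
          rwa [e1, e2, e3, hsym 2 0] at this
    exact h.near_trans h01 m02 m23 key.1 key.2
  have r01 := h.ne_zero h01
  have r23 := h.ne_zero m23
  have hne : x 0 1 ≠ x 2 3 := fun e => hz (by rw [e, v_add_self])
  by_cases hb : Big ρ Om
  · -- (B)
    obtain ⟨φ, hφ, h1⟩ := h.adj_of_near hb h01 m23 hne hA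
    have h2 := fn_fixed r01 hfix hφ
    rw [map_add, hφ.1, zero_add, h1] at h2
    exact one_ne_zero h2
  -- (C)
  have huniq : ∀ {r : V}, r ∈ Om → ∀ {φ ψ : Dual (ZMod 2) V}, Fn ρ r φ → Fn ρ r ψ → φ ≠ 0 → ψ ≠ 0 → φ = ψ := by
    intro r hr φ ψ h1 h2 h3 h4
    by_contra h5
    exact hb (h.big_of hr h1 h2 h3 h4 h5)
  obtain ⟨φ, hφ0, hφ⟩ := h.exists_fn h01
  obtain ⟨ψ, hψ0, hψ⟩ := h.exists_fn m23
  have hone : ∀ {θ : Dual (ZMod 2) V} {y : V}, θ y = 1 → θ ≠ 0 := by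
    rintro θ y h1 rfl
    exact zero_ne_one h1
  have hOmeq : ∀ y ∈ Om, φ y = ψ y := by
    intro y hy
    have ry := h.ne_zero hy
    have k1 : φ y = 1 → ψ y = 1 := by
      intro h1
      obtain ⟨χ, hχ, h2⟩ := h.symm h01 hy ⟨φ, hφ, h1⟩
      have h3 := fn_fixed ry hfix hχ
      rw [map_add, h2] at h3
      have h4 : χ (x 2 3) = 1 := by
        rcases z2 (χ (x 2 3)) with h5 | h5
        · rw [h5, add_zero] at h3
          exact absurd h3 one_ne_zero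
        · exact h5
      obtain ⟨ψ', hψ', h5⟩ := h.symm hy m23 ⟨χ, hχ, h4⟩
      rwa [huniq m23 hψ' hψ (hone h5) hψ0] at h5
    have k2 : ψ y = 1 → φ y = 1 := by
      intro h1
      obtain ⟨χ, hχ, h2⟩ := h.symm m23 hy ⟨ψ, hψ, h1⟩
      have h3 := fn_fixed ry hfix hχ
      rw [map_add, h2] at h3
      have h4 : χ (x 0 1) = 1 := by
        rcases z2 (χ (x 0 1)) with h5 | h5
        · rw [h5, zero_add] at h3
          exact absurd h3 one_ne_zero
        · exact h5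
      obtain ⟨φ', hφ', h5⟩ := h.symm hy h01 ⟨χ, hχ, h4⟩
      rwa [huniq h01 hφ' hφ (hone h5) hφ0] at h5
    rcases z2 (φ y) with h1 | h1
    · rcases z2 (ψ y) with h2 | h2
      · rw [h1, h2]
      · rw [k2 h2, h2]
    · rw [h1, k1 h1]
  have heq : φ = ψ := by
    refine LinearMap.ext_on h.span fun s hs => ?_
    exact hOmeq s hs
  obtain ⟨hφ1, g, hg⟩ := hφ
  obtain ⟨hψ1, k, hk⟩ := hψ
  rw [← heq] at hψ1 hk
  have hgk : ∀ w, ρ (g * k) w = w + φ w • (x 0 1 + x 2 3) := by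
    intro w
    rw [rmul, hk, map_add, map_smul, hg, hg, hψ1, zero_smul, add_zero, smul_add]
    abel
  have hφz : φ (x 0 1 + x 2 3) = 0 := by rw [map_add, hφ1, hψ1, add_zero]
  have htriv := h.chain (Submodule.span (ZMod 2) {x 0 1 + x 2 3}) ?_ (g * k) ?_ ?_
  · obtain ⟨s, -, hs⟩ := h.exists_one hφ0
    have h1 := htriv s
    rw [hgk, hs, one_smul] at h1
    exact hz (add_eq_left.mp h1)
  · intro g' u hu
    obtain ⟨c, rfl⟩ := Submodule.mem_span_singleton.mp hu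
    rw [map_smul, hfix]
    exact Submodule.smul_mem _ _ (Submodule.mem_span_singleton_self _)
  · intro u hu
    obtain ⟨c, rfl⟩ := Submodule.mem_span_singleton.mp hu
    rw [hgk, map_smul, hφz, smul_zero, zero_smul, add_zero]
  · intro v
    rw [hgk, add_comm v, add_assoc, v_add_self, add_zero]
    exact Submodule.smul_mem _ _ (Submodule.mem_span_singleton_self _)

/-- **(T), `N = 4`**, the orbit need not span: `flag` = the stability group of `0 < ⟨z⟩ < ⟨Om⟩ < V` is trivial -/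
theorem no_light_four' [Finite V] (h : SysW ρ Om) (x : Fin 4 → Fin 4 → V)
    (hadd : ∀ i j k, x i j + x j k = x i k)
    (hfull : ∀ σ : Equiv.Perm (Fin 4), ∃ g : H, ∀ i j, ρ g (x i j) = x (σ i) (σ j))
    (hfix : ∀ g : H, ρ g (x 0 1 + x 2 3) = x 0 1 + x 2 3) (hz : x 0 1 + x 2 3 ≠ 0) (h01 : x 0 1 ∈ Om)
    (flag : ∀ g : H, (∀ u ∈ Submodule.span (ZMod 2) Om, ρ g u + u ∈ Submodule.span (ZMod 2) {x 0 1 + x 2 3}) →
      (∀ v, ρ g v + v ∈ Submodule.span (ZMod 2) Om) → ∀ v, ρ g v = v) : False := by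
  have hii : ∀ i, x i i = 0 := fun i => by
    have h1 := hadd i i i
    exact add_eq_left.mp h1
  have hsym : ∀ i j, x i j = x j i := fun i j => v_eq_of_add (by rw [hadd, hii])
  have hOm : ∀ (σ : Equiv.Perm (Fin 4)), x (σ 0) (σ 1) ∈ Om := by
    intro σ
    obtain ⟨g, hg⟩ := hfull σ
    rw [← hg]
    exact h.inv g _ h01
  have m12 : x 1 2 ∈ Om := by
    obtain ⟨σ, e1, e2⟩ : ∃ σ : Equiv.Perm (Fin 4), σ 0 = 1 ∧ σ 1 = 2 := by decide
    rw [← e1, ← e2]; exact hOm σ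
  have m23 : x 2 3 ∈ Om := by
    obtain ⟨σ, e1, e2⟩ : ∃ σ : Equiv.Perm (Fin 4), σ 0 = 2 ∧ σ 1 = 3 := by decide
    rw [← e1, ← e2]; exact hOm σ
  have m02 : x 0 2 ∈ Om := by
    obtain ⟨σ, e1, e2⟩ : ∃ σ : Equiv.Perm (Fin 4), σ 0 = 0 ∧ σ 1 = 2 := by decide
    have := hOm σ
    rwa [e1, e2] at this
  have nconj : ∀ (σ : Equiv.Perm (Fin 4)) {a b c d : Fin 4}, Near ρ Om (x a b) (x c d) →
      Near ρ Om (x (σ a) (σ b)) (x (σ c) (σ d)) := by
    rintro σ a b c d ⟨v, hv, h1, h2⟩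
    obtain ⟨g, hg⟩ := hfull σ
    rw [← hg, ← hg]
    exact ⟨ρ g v, h.inv g v hv, h1.conj g, h2.conj g⟩
  -- (A)
  have hA : Near ρ Om (x 0 1) (x 2 3) := by
    have key : Near ρ Om (x 0 1) (x 0 2) ∧ Near ρ Om (x 0 2) (x 2 3) := by
      obtain ⟨v, hv, hav⟩ := h.exists_adj m12
      obtain ⟨φ, hφ, h1⟩ := h.symm m12 hv hav
      rw [← hadd 1 0 2, map_add] at h1
      rcases z2 (φ (x 1 0)) with h2 | h2
      · rw [h2, zero_add] at h1
        have hn : Near ρ Om (x 2 1) (x 2 0) := by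
          rw [hsym 2 1, hsym 2 0]
          exact ⟨v, hv, hav, φ, hφ, h1⟩
        constructor
        · obtain ⟨σ, e1, e2, e3⟩ : ∃ σ : Equiv.Perm (Fin 4), σ 2 = 0 ∧ σ 1 = 1 ∧ σ 0 = 2 := by decide
          have := nconj σ hn
          rwa [e1, e2, e3] at this
        · obtain ⟨σ, e1, e2, e3⟩ : ∃ σ : Equiv.Perm (Fin 4), σ 2 = 2 ∧ σ 1 = 0 ∧ σ 0 = 3 := by decide
          have := nconj σ hn
          rwa [e1, e2, e3, hsym 2 0] at this
      · have hn : Near ρ Om (x 1 2) (x 1 0) := ⟨v, hv, hav, φ, hφ, h2⟩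
        constructor
        · obtain ⟨σ, e1, e2, e3⟩ : ∃ σ : Equiv.Perm (Fin 4), σ 1 = 0 ∧ σ 2 = 1 ∧ σ 0 = 2 := by decide
          have := nconj σ hn
          rwa [e1, e2, e3] at this
        · obtain ⟨σ, e1, e2, e3⟩ : ∃ σ : Equiv.Perm (Fin 4), σ 1 = 2 ∧ σ 2 = 0 ∧ σ 0 = 3 := by decide
          have := nconj σ hn
          rwa [e1, e2, e3, hsym 2 0] at this
    exact h.near_trans h01 m02 m23 key.1 key.2
  have r01 := h.ne_zero h01
  have r23 := h.ne_zero m23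
  have hne : x 0 1 ≠ x 2 3 := fun e => hz (by rw [e, v_add_self])
  by_cases hb : Big ρ Om
  · -- (B)
    obtain ⟨φ, hφ, h1⟩ := h.adj_of_near hb h01 m23 hne hA
    have h2 := fn_fixed r01 hfix hφ
    rw [map_add, hφ.1, zero_add, h1] at h2
    exact one_ne_zero h2
  -- (C)
  have huniq : ∀ {r : V}, r ∈ Om → ∀ {φ ψ : Dual (ZMod 2) V}, Fn ρ r φ → Fn ρ r ψ → φ ≠ 0 → ψ ≠ 0 → φ = ψ := by
    intro r hr φ ψ h1 h2 h3 h4
    by_contra h5
    exact hb (h.big_of hr h1 h2 h3 h4 h5)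
  obtain ⟨φ, hφ0, hφ⟩ := h.exists_fn h01
  obtain ⟨ψ, hψ0, hψ⟩ := h.exists_fn m23
  have hone : ∀ {θ : Dual (ZMod 2) V} {y : V}, θ y = 1 → θ ≠ 0 := by
    rintro θ y h1 rfl
    exact zero_ne_one h1
  have hOmeq : ∀ y ∈ Om, φ y = ψ y := by
    intro y hy
    have ry := h.ne_zero hy
    have k1 : φ y = 1 → ψ y = 1 := by
      intro h1
      obtain ⟨χ, hχ, h2⟩ := h.symm h01 hy ⟨φ, hφ, h1⟩
      have h3 := fn_fixed ry hfix hχ
      rw [map_add, h2] at h3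
      have h4 : χ (x 2 3) = 1 := by
        rcases z2 (χ (x 2 3)) with h5 | h5
        · rw [h5, add_zero] at h3
          exact absurd h3 one_ne_zero
        · exact h5
      obtain ⟨ψ', hψ', h5⟩ := h.symm hy m23 ⟨χ, hχ, h4⟩
      rwa [huniq m23 hψ' hψ (hone h5) hψ0] at h5
    have k2 : ψ y = 1 → φ y = 1 := by
      intro h1
      obtain ⟨χ, hχ, h2⟩ := h.symm m23 hy ⟨ψ, hψ, h1⟩
      have h3 := fn_fixed ry hfix hχ
      rw [map_add, h2] at h3
      have h4 : χ (x 0 1) = 1 := by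
        rcases z2 (χ (x 0 1)) with h5 | h5
        · rw [h5, zero_add] at h3
          exact absurd h3 one_ne_zero
        · exact h5
      obtain ⟨φ', hφ', h5⟩ := h.symm hy h01 ⟨χ, hχ, h4⟩
      rwa [huniq h01 hφ' hφ (hone h5) hφ0] at h5
    rcases z2 (φ y) with h1 | h1
    · rcases z2 (ψ y) with h2 | h2
      · rw [h1, h2]
      · rw [k2 h2, h2]
    · rw [h1, k1 h1]
  have hφF := hφ
  obtain ⟨hφ1, g, hg⟩ := hφ
  obtain ⟨hψ1, k, hk⟩ := hψ
  have hφ23 : φ (x 2 3) = 0 := by rw [hOmeq _ m23, hψ1]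
  have hspan : ∀ u ∈ Submodule.span (ZMod 2) Om, φ u = ψ u := by
    intro u hu
    induction hu using Submodule.span_induction with
    | mem y hy => exact hOmeq y hy
    | zero => rw [map_zero, map_zero]
    | add a b _ _ ha hb => rw [map_add, map_add, ha, hb]
    | smul c a _ ha => rw [map_smul, map_smul, ha]
  have hgk : ∀ w, ρ (g * k) w = w + (φ w • x 0 1 + ψ w • x 2 3) := by
    intro w
    rw [rmul, hk, map_add, map_smul, hg, hg, hφ23, zero_smul, add_zero]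
    abel
  have htriv := flag (g * k) (fun u hu => ?_) (fun v => ?_)
  · obtain ⟨s, hsO, hs⟩ := h.exists_one h01 hφF hφ0
    have h1 := htriv s
    rw [hgk, ← hOmeq s hsO, hs, one_smul, one_smul] at h1
    exact hz (add_eq_left.mp h1)
  · have e : ρ (g * k) u + u = φ u • (x 0 1 + x 2 3) := by
      rw [hgk, ← hspan u hu, ← smul_add, add_comm u, add_assoc, v_add_self, add_zero]
    rw [e]
    exact Submodule.smul_mem _ _ (Submodule.mem_span_singleton_self _)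
  · have e : ρ (g * k) v + v = φ v • x 0 1 + ψ v • x 2 3 := by
      rw [hgk, add_comm v, add_assoc, v_add_self, add_zero]
    rw [e]
    exact add_mem (Submodule.smul_mem _ _ (Submodule.subset_span h01))
      (Submodule.smul_mem _ _ (Submodule.subset_span m23))

end Cfsg.Agent.Omega.NO3S.SN2.Light
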