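import Cfsg.Agent.Omega.NO3S.SN2.Light.Four
import Cfsg.Agent.Omega.HT.TComp

/-!
# LightL, (T) for `N = 4`, group form (#22246 (2))

`C` acts on the elementary abelian group `N`; every normal subgroup `B` of `C` whose fourth powers centralise `N`
centralises `N` (`O₂(C / C_C(N)) = 1`); `y i j ∈ N` (`i, j : Fin 4`) are the pairs of four letters, permuted by elements
of `C` like the pairs of `Sym(4)`, `z = y 0 1 * y 2 3 ≠ 1` is centralised by `C`.  Then no element of `C` acts on `N` as a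
transvection with centre `y 0 1`.
-/

set_option autoImplicit false

namespace Cfsg.Agent.Omega.NO3S.SN2.Light

open Module Subgroup Cfsg.Agent.Omega.TV Cfsg.Agent.Omega.HT.TComp Cfsg.Agent.Omega.HOneTwo

variable {G : Type*} [Group G]

/-- **(T), `N = 4`** -/
theorem no_light_group_four [Finite G] {C N : Subgroup G} (hsq : ∀ x ∈ N, x * x = 1)
    (hnor : ∀ c ∈ C, ∀ n ∈ N, c * n * c⁻¹ ∈ N)
    (core : ∀ B : Subgroup G, B ≤ C → (∀ c ∈ C, ∀ b ∈ B, c * b * c⁻¹ ∈ B) →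
      (∀ b ∈ B, ∀ n ∈ N, b ^ 4 * n = n * b ^ 4) → ∀ b ∈ B, ∀ n ∈ N, b * n = n * b)
    (y : Fin 4 → Fin 4 → G) (hyN : ∀ i j, y i j ∈ N) (hadd : ∀ i j k, y i j * y j k = y i k)
    (hfull : ∀ σ : Equiv.Perm (Fin 4), ∃ g ∈ C, ∀ i j, g * y i j * g⁻¹ = y (σ i) (σ j))
    (hfix : ∀ g ∈ C, g * (y 0 1 * y 2 3) * g⁻¹ = y 0 1 * y 2 3) (hz : y 0 1 * y 2 3 ≠ 1) {t : G} (ht : t ∈ C)
    (htn : ∀ n ∈ N, t * n * t⁻¹ = n ∨ t * n * t⁻¹ = n * y 0 1) : ∀ n ∈ N, t * n * t⁻¹ = n := by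
  by_contra hne
  push Not at hne
  have h01 : y 0 1 ≠ 1 := by
    intro e
    obtain ⟨σ, e1, e2⟩ : ∃ σ : Equiv.Perm (Fin 4), σ 0 = 2 ∧ σ 1 = 3 := by decide
    obtain ⟨g, -, hg⟩ := hfull σ
    have h1 := hg 0 1
    rw [e, mul_one, mul_inv_cancel, e1, e2] at h1
    exact hz (by rw [e, ← h1, mul_one])
  have core2 : ∀ B : Subgroup G, B ≤ C → (∀ c ∈ C, ∀ b ∈ B, c * b * c⁻¹ ∈ B) →
      (∀ b ∈ B, ∀ n ∈ N, b * b * n = n * (b * b)) → ∀ b ∈ B, ∀ n ∈ N, b * n = n * b := by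
    intro B h1 h2 h3
    refine core B h1 h2 fun b hb n hn => ?_
    have h4 : Commute (b * b) n := h3 b hb n hn
    have h5 := (h4.pow_left 2).eq
    have e : (b * b) ^ 2 = b ^ 4 := by rw [← pow_two, ← pow_mul]
    rwa [e] at h5
  have hS : GSysW C N (y 0 1) :=
    { sq := hsq
      nor := hnor
      mem := hyN 0 1
      ne := h01
      chain := fun U hU hCU c hc h1 h2 => chain_of_core hsq hnor core2 hU hCU hc h1 h2 }
  have hW := hS.toSysW ht htn hne
  set ρ := hS.rep with hρ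
  set E : Submodule (ZMod 2) (EA N hS.sq) := Submodule.span (ZMod 2) hS.pts with hE
  let X : Fin 4 → Fin 4 → EA N hS.sq := fun i j => EA.mk hS.sq (y i j) (hyN i j)
  have hX : ∀ i j, (X i j).val = y i j := fun i j => rfl
  have hXz : (X 0 1 + X 2 3).val = y 0 1 * y 2 3 := rfl
  have hzfix : ∀ g : C, ρ g (X 0 1 + X 2 3) = X 0 1 + X 2 3 := by
    intro g
    apply EA.ext
    rw [hρ, hS.val_rep, hXz]
    exact hfix g g.2
  have hEinv : ∀ (g : C), ∀ u ∈ E, ρ g u ∈ E := by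
    intro g u hu
    have h2 : E ≤ E.comap ((ρ g : EA N hS.sq ≃ₗ[ZMod 2] EA N hS.sq).toLinearMap) :=
      Submodule.span_le.2 fun s hs => Submodule.subset_span (hW.inv g s hs)
    exact h2 hu
  set Z : Submodule (ZMod 2) (EA N hS.sq) := Submodule.span (ZMod 2) {X 0 1 + X 2 3} with hZ
  have hZfix : ∀ (g : C), ∀ u ∈ Z, ρ g u = u := by
    intro g u hu
    obtain ⟨c, rfl⟩ := Submodule.mem_span_singleton.mp hu
    rw [map_smul, hzfix]
  refine no_light_four' hW X (fun i j k => EA.ext ?_) (fun σ => ?_) hzfix (fun e => hz ?_) hS.mem_pts_r ?_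
  · change (X i j).val * (X j k).val = (X i k).val
    exact hadd i j k
  · obtain ⟨g, hg, h1⟩ := hfull σ
    exact ⟨⟨g, hg⟩, fun i j => EA.ext (h1 i j)⟩
  · rw [← hXz, e]
    rfl
  -- the flag
  intro g hg1 hg2
  let B : Subgroup C :=
    { carrier := {c | (∀ u ∈ E, ρ c u + u ∈ Z) ∧ ∀ v, ρ c v + v ∈ E}
      one_mem' := ⟨fun u _ => by rw [TV.rone, v_add_self]; exact Z.zero_mem,
        fun v => by rw [TV.rone, v_add_self]; exact E.zero_mem⟩
      mul_mem' := by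
        rintro a b ⟨ha1, ha2⟩ ⟨hb1, hb2⟩
        refine ⟨fun u hu => ?_, fun v => ?_⟩
        · have e : ρ (a * b) u + u = (ρ b u + u) + (ρ a u + u) := by
            have h1 := hZfix a _ (hb1 u hu)
            rw [map_add] at h1
            have h2 : ρ a (ρ b u) = ρ b u + u + ρ a u := by
              rw [← h1, add_assoc, v_add_self, add_zero]
            rw [TV.rmul, h2]
            abel
          rw [e]
          exact Z.add_mem (hb1 u hu) (ha1 u hu)
        · have e : ρ (a * b) v + v = ρ a (ρ b v + v) + (ρ a v + v) := by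
            rw [TV.rmul, map_add]
            have h2 := v_add_self (ρ a v)
            calc ρ a (ρ b v) + v = ρ a (ρ b v) + v + 0 := (add_zero _).symm
              _ = ρ a (ρ b v) + v + (ρ a v + ρ a v) := by rw [h2]
              _ = ρ a (ρ b v) + ρ a v + (ρ a v + v) := by abel
          rw [e]
          exact E.add_mem (hEinv a _ (hb2 v)) (ha2 v)
      inv_mem' := by
        rintro a ⟨ha1, ha2⟩
        refine ⟨fun u hu => ?_, fun v => ?_⟩
        · have h1 := ha1 _ (hEinv a⁻¹ u hu)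
          rw [TV.rinv', add_comm] at h1
          exact h1
        · have h1 := ha2 (ρ a⁻¹ v)
          rw [TV.rinv', add_comm] at h1
          exact h1 }
  have hBn : ∀ c : C, ∀ b ∈ B, c * b * c⁻¹ ∈ B := by
    rintro c b ⟨hb1, hb2⟩
    have key : ∀ v, ρ (c * b * c⁻¹) v + v = ρ c (ρ b (ρ c⁻¹ v) + ρ c⁻¹ v) := by
      intro v
      rw [TV.rmul, TV.rmul, map_add, TV.rinv']
    refine ⟨fun u hu => ?_, fun v => ?_⟩
    · rw [key, hZfix c _ (hb1 _ (hEinv c⁻¹ u hu))]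
      exact hb1 _ (hEinv c⁻¹ u hu)
    · rw [key]
      exact hEinv c _ (hb2 _)
  have hB4 : ∀ b ∈ B, ∀ v, ρ (b ^ 4) v = v := by
    rintro b ⟨hb1, hb2⟩ v
    have hsq2 : ∀ v, ∃ ζ ∈ Z, ρ (b * b) v = v + ζ := by
      intro v
      have h1 := hb1 _ (hb2 v)
      refine ⟨_, h1, ?_⟩
      rw [map_add, TV.rmul]
      have h2 := v_add_self (ρ b v)
      calc ρ b (ρ b v) = ρ b (ρ b v) + (ρ b v + ρ b v) + (v + v) := by
            rw [h2, v_add_self, add_zero, add_zero]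
        _ = v + (ρ b (ρ b v) + ρ b v + (ρ b v + v)) := by abel
    obtain ⟨ζ, hζ, h1⟩ := hsq2 v
    obtain ⟨ζ', hζ', h2⟩ := hsq2 (ρ (b * b) v)
    have e : b ^ 4 = (b * b) * (b * b) := by
      rw [← pow_two, ← pow_two, ← pow_mul]
    have h3 : ρ (b * b) (v + ζ) = v + ζ + ζ := by
      rw [map_add, h1, hZfix _ _ hζ]
    rw [e, TV.rmul, h1, h3, add_assoc, v_add_self, add_zero]
  have hmap : ∀ b ∈ B.map C.subtype, ∀ n ∈ N, b * n = n * b := by
    refine core _ (map_subtype_le B) (fun c hc b' hb' => ?_) (fun b' hb' n hn => ?_)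
    · obtain ⟨b, hb, rfl⟩ := mem_map.mp hb'
      exact mem_map.mpr ⟨(⟨c, hc⟩ : C) * b * (⟨c, hc⟩ : C)⁻¹, hBn (⟨c, hc⟩ : C) b hb, rfl⟩
    · obtain ⟨b, hb, rfl⟩ := mem_map.mp hb'
      have h1 : ((b ^ 4 : C) : G) * n * ((b ^ 4 : C) : G)⁻¹ = n :=
        congrArg EA.val (hB4 b hb (EA.mk hS.sq n hn))
      have h2 : ((b ^ 4 : C) : G) = (C.subtype b) ^ 4 := by
        rw [SubmonoidClass.coe_pow]
        rfl
      rw [← h2]
      exact mul_inv_eq_iff_eq_mul.mp h1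
  intro v
  apply EA.ext
  have hgB : g ∈ B := ⟨hg1, hg2⟩
  have h1 := hmap (C.subtype g) (mem_map_of_mem C.subtype hgB) v.val v.val_mem
  change (g : G) * v.val * (g : G)⁻¹ = v.val
  exact mul_inv_eq_iff_eq_mul.mpr h1

end Cfsg.Agent.Omega.NO3S.SN2.Light
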