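import Cfsg.Agent.Omega.NO3S.SN2.Light.Pure
import Cfsg.Agent.Omega.TV.Group
import Cfsg.Agent.Lib.SylowNormalInf

/-!
# THEOREM (T), light centre (helper408, OMEGA / SN.Two, #22394): inside a group

`C` acts by conjugation on the elementary abelian group `W` (`C = C_G(z)`, `W = U_z`, or helper237's `M₀`,
`⟨V ^ M₀⟩`), `ε : (ι → F₂) → W` a line on `z = ε 1` (the convention of `PathG`): `ε (e_i) = z_i`,
`ε (e_i + e_j) = x_ij` light.

* `SitL C W ε` : the situation (`|ι|` even and at least `8`; only `L controls fusion`, `O₂(C / C_C(W)) = 1`, a Sylow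
  subgroup acting on the line, and one `r ∈ C_C(x_ab)` with `x_ad` not on the line `V ^ r`);
* `SitL.no_light` : an element of `C` acting on `W` as a transvection with light centre centralises `W`.
-/

set_option autoImplicit false
set_option linter.unusedSectionVars false

namespace Cfsg.Agent.Omega.NO3S.SN2.Light

open Subgroup Module Cfsg.Agent.Omega.TV

universe u w

/-! ### `O₂(Sym(k)) = 1` for `k ≥ 5` -/

section sym

variable {ι : Type*} [DecidableEq ι] {T : Subgroup (Equiv.Perm ι)}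

theorem not_threeCycle [Fintype ι] (hT : ∀ σ ∈ T, σ * σ = 1) {w : Equiv.Perm ι} (hw : w ∈ T) :
    ¬ w.IsThreeCycle := by
  intro h3
  have h1 := h3.orderOf
  have h2 : w ^ 2 = 1 := by rw [pow_two, hT w hw]
  have h4 : 3 ∣ 2 := by
    rw [← h1]
    exact orderOf_dvd_of_pow_eq_one h2
  omega

/-- A normal subgroup of exponent 2 is trivial. -/
theorem sym_trivial [Fintype ι] (hn : 5 ≤ Fintype.card ι) (hT : ∀ σ ∈ T, σ * σ = 1)
    (hN : ∀ t ∈ T, ∀ s : Equiv.Perm ι, s * t * s⁻¹ ∈ T) : ∀ t ∈ T, t = 1 := by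
  have key : ∀ t ∈ T, ∀ a b, Equiv.swap a b * Equiv.swap (t a) (t b) ∈ T := by
    intro t ht a b
    have h1 := T.mul_mem (hN t ht (Equiv.swap a b)) (T.inv_mem ht)
    have h2 : Equiv.swap (t a) (t b) = t * Equiv.swap a b * t⁻¹ := Equiv.swap_apply_apply t a b
    rw [h2]
    have h3 : (Equiv.swap a b)⁻¹ = Equiv.swap a b := Equiv.swap_inv a b
    rw [h3] at h1
    convert h1 using 1
    group
  have claim1 : ∀ u ∈ T, ∀ a f, u f = f → u a = a := by
    intro u hu a f huf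
    by_contra hne
    have haf : a ≠ f := fun h => hne (by rw [h]; exact huf)
    have hcf : u a ≠ f := fun h => haf (u.injective (h.trans huf.symm))
    have h1 := key u hu a f
    rw [huf, Equiv.swap_comm a f, Equiv.swap_comm (u a) f] at h1
    exact not_threeCycle hT h1
      (Equiv.Perm.isThreeCycle_swap_mul_swap_same (Ne.symm haf) (Ne.symm hcf) (Ne.symm hne))
  intro t ht
  by_contra hne
  obtain ⟨a, hta⟩ : ∃ a, t a ≠ a := by
    by_contra hcon
    push Not at hcon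
    exact hne (Equiv.ext hcon)
  have htb : t (t a) = a := by
    have h1 := hT t ht
    exact congrArg (fun s : Equiv.Perm ι => s a) h1
  obtain ⟨c, hc⟩ : ∃ c, c ∉ ({a, t a} : Finset ι) := by
    by_contra hcon
    push Not at hcon
    have h4 : (Finset.univ : Finset ι) ⊆ {a, t a} := fun l _ => hcon l
    have h5 := (Finset.card_le_card h4).trans Finset.card_le_two
    rw [Finset.card_univ] at h5
    omega
  simp only [Finset.mem_insert, Finset.mem_singleton, not_or] at hc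
  obtain ⟨hca, hcb⟩ := hc
  have htc : t c ≠ c := fun h => hta (claim1 t ht a c h)
  obtain ⟨f, hf⟩ : ∃ f, f ∉ ({a, t a, c, t c} : Finset ι) := by
    by_contra hcon
    push Not at hcon
    have h4 : (Finset.univ : Finset ι) ⊆ {a, t a, c, t c} := fun l _ => hcon l
    have h5 := (Finset.card_le_card h4).trans Finset.card_le_four
    rw [Finset.card_univ] at h5
    omega
  simp only [Finset.mem_insert, Finset.mem_singleton, not_or] at hf
  obtain ⟨hfa, hfb, hfc, hfd⟩ := hf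
  have h1 := key t ht a c
  have h2 := claim1 _ h1 a f (by
    rw [Equiv.Perm.mul_apply, Equiv.swap_apply_of_ne_of_ne hfb hfd, Equiv.swap_apply_of_ne_of_ne hfa hfc])
  rw [Equiv.Perm.mul_apply, Equiv.swap_apply_of_ne_of_ne (Ne.symm hta)
    (fun h => hcb (t.injective (by rw [htb]; exact h.symm))), Equiv.swap_apply_left] at h2
  exact hca h2

end sym

variable {G : Type u} [Group G] {ι : Type w} [DecidableEq ι]

/-- `n` acts on the line as `σ` (same as `PathG.Act`) -/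
def Act (ε : (ι → ZMod 2) → G) (n : G) (σ : Equiv.Perm ι) : Prop := ∀ a, n * ε a * n⁻¹ = ε (a ∘ σ.symm)

/-- `e_i + e_j` -/
def pr (i j : ι) : ι → ZMod 2 := Pi.single i 1 + Pi.single j 1

/-- **The situation.** -/
structure SitL [Fintype ι] (C W : Subgroup G) (ε : (ι → ZMod 2) → G) : Prop where
  sq : ∀ a ∈ W, a * a = 1
  nor : ∀ c ∈ C, ∀ w ∈ W, c * w * c⁻¹ ∈ W
  add : ∀ x y, ε (x + y) = ε x * ε y
  mem : ∀ x, ε x ∈ W
  inj : ∀ x, ε x = 1 → x = 0
  sym : ∀ σ : Equiv.Perm ι, ∃ n ∈ C, Act ε n σ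
  zf : ∀ c ∈ C, c * ε 1 = ε 1 * c
  o2 : ∀ K ≤ C, C ≤ normalizer (K : Set G) → (∀ g ∈ K, ∃ k : ℕ, g ^ 2 ^ k ∈ centralizer (W : Set G)) →
    K ≤ centralizer (W : Set G)
  syl : ∃ T : Subgroup G, T ≤ C ∧ IsPGroup 2 T ∧ ¬ 2 ∣ T.relIndex C ∧ ∀ t ∈ T, ∃ σ, Act ε t σ
  fus : ∀ c ∈ C, ∀ i j, i ≠ j → ∀ a, c * ε (pr i j) * c⁻¹ = ε a → ∃ k l, k ≠ l ∧ a = pr k l
  even : Even (Fintype.card ι)
  card : 8 ≤ Fintype.card ι
  mov : ∃ a b d, a ≠ b ∧ a ≠ d ∧ b ≠ d ∧ ∃ r ∈ C, r * ε (pr a b) = ε (pr a b) * r ∧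
    ∀ i j, i ≠ j → ε (pr a d) ≠ r * ε (pr i j) * r⁻¹

namespace SitL

variable [Fintype ι] {C W : Subgroup G} {ε : (ι → ZMod 2) → G} (h : SitL C W ε)

include h

theorem one : ε 0 = 1 := by
  have h1 := h.add 0 0
  rw [add_zero] at h1
  exact (left_eq_mul.1 h1)

theorem eps_inj {x y : ι → ZMod 2} (e : ε x = ε y) : x = y := by
  have h1 : ε (x + y) = 1 := by
    rw [h.add, e]
    exact h.sq _ (h.mem y)
  have h2 := h.inj _ h1
  funext i
  have h3 := congrFun h2 i
  rw [Pi.add_apply, Pi.zero_apply] at h3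
  generalize x i = a at h3 ⊢
  generalize y i = b at h3 ⊢
  revert h3 a b
  decide

omit h [Fintype ι] in
theorem pr_self (i : ι) : pr i i = 0 := by
  funext k
  unfold pr
  rw [Pi.add_apply, Pi.zero_apply]
  exact CharTwo.add_self_eq_zero _

omit h [Fintype ι] in
theorem pr_add (i j k : ι) : pr i j + pr j k = pr i k := by
  funext l
  unfold pr
  simp only [Pi.add_apply]
  generalize (Pi.single i 1 : ι → ZMod 2) l = a
  generalize (Pi.single j 1 : ι → ZMod 2) l = b
  generalize (Pi.single k 1 : ι → ZMod 2) l = c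
  revert a b c
  decide

omit h [Fintype ι] in
theorem single_comp (σ : Equiv.Perm ι) (i : ι) :
    (Pi.single i 1 : ι → ZMod 2) ∘ σ.symm = Pi.single (σ i) 1 := by
  funext k
  rw [Function.comp_apply]
  by_cases hk : k = σ i
  · subst hk
    rw [Equiv.symm_apply_apply, Pi.single_eq_same, Pi.single_eq_same]
  · rw [Pi.single_eq_of_ne hk, Pi.single_eq_of_ne (fun e => hk (by rw [← e, Equiv.apply_symm_apply]))]

omit h [Fintype ι] in
theorem pr_comp (σ : Equiv.Perm ι) (i j : ι) : pr i j ∘ σ.symm = pr (σ i) (σ j) := by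
  unfold pr
  rw [← single_comp σ i, ← single_comp σ j]
  rfl

omit h [Fintype ι] in
theorem act_pr {n : G} {σ : Equiv.Perm ι} (hn : Act ε n σ) (i j : ι) :
    n * ε (pr i j) * n⁻¹ = ε (pr (σ i) (σ j)) := by rw [hn, pr_comp]

omit h [Fintype ι] in
theorem act_mul {n n' : G} {σ σ' : Equiv.Perm ι} (hn : Act ε n σ) (hn' : Act ε n' σ') :
    Act ε (n * n') (σ * σ') := fun a => by
  calc n * n' * ε a * (n * n')⁻¹ = n * (n' * ε a * n'⁻¹) * n⁻¹ := by group
    _ = ε ((a ∘ σ'.symm) ∘ σ.symm) := by rw [hn', hn]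
    _ = _ := rfl

omit h [Fintype ι] in
theorem act_one : Act ε (1 : G) 1 := fun a => by
  rw [one_mul, inv_one, mul_one]
  rfl

omit h [Fintype ι] in
theorem act_inv {n : G} {σ : Equiv.Perm ι} (hn : Act ε n σ) : Act ε n⁻¹ σ⁻¹ := fun a => by
  have h1 := hn (a ∘ σ)
  have h2 : (a ∘ σ) ∘ σ.symm = a := by
    funext i
    simp
  rw [h2] at h1
  rw [← h1]
  have h3 : a ∘ (σ⁻¹).symm = a ∘ σ := rfl
  rw [h3]
  group

/-- values of `pr` -/
theorem pr_ne_zero {i j : ι} (hij : i ≠ j) : pr i j ≠ 0 := by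
  intro e
  have h1 := congrFun e i
  unfold pr at h1
  rw [Pi.add_apply, Pi.single_eq_same, Pi.single_eq_of_ne hij, add_zero, Pi.zero_apply] at h1
  exact one_ne_zero h1

/-- an element acting as `σ` and centralising all `x_ij` has `σ = 1` -/
theorem act_eq_one {n : G} {σ : Equiv.Perm ι} (hn : Act ε n σ) (hc : ∀ i j, i ≠ j → n * ε (pr i j) * n⁻¹ = ε (pr i j)) :
    σ = 1 := by
  have h8 := h.card
  have key : ∀ i j, i ≠ j → σ i = i ∨ σ i = j := by
    intro i j hij
    have h1 := hc i j hij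
    rw [act_pr hn] at h1
    have h2 := congrFun (h.eps_inj h1) (σ i)
    by_contra hcon
    push Not at hcon
    unfold pr at h2
    rw [Pi.add_apply, Pi.add_apply, Pi.single_eq_same, Pi.single_eq_of_ne (fun e => hij (σ.injective e)),
      Pi.single_eq_of_ne hcon.1, Pi.single_eq_of_ne hcon.2] at h2
    revert h2
    decide
  ext i
  rw [Equiv.Perm.one_apply]
  by_contra hne
  obtain ⟨j, hj⟩ : ∃ c, c ∉ ({i, σ i} : Finset ι) := by
    by_contra hcon
    push Not at hcon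
    have h4 : (Finset.univ : Finset ι) ⊆ {i, σ i} := fun l _ => hcon l
    have h5 := (Finset.card_le_card h4).trans Finset.card_le_two
    rw [Finset.card_univ] at h5
    omega
  simp only [Finset.mem_insert, Finset.mem_singleton, not_or] at hj
  rcases key i j (Ne.symm hj.1) with h1 | h1
  · exact hne h1
  · exact hj.2 h1.symm

/-- The subgroup generated by the light vectors of the lines. -/
def NL (C : Subgroup G) (r : G) : Subgroup G := closure {x | ∃ c ∈ C, x = c * r * c⁻¹}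

theorem NL_le {i j : ι} : NL C (ε (pr i j)) ≤ W := by
  unfold NL
  rw [closure_le]
  rintro _ ⟨c, hc, rfl⟩
  exact h.nor c hc _ (h.mem _)

omit h [Fintype ι] [DecidableEq ι] in
theorem NL_nor {r c n : G} (hc : c ∈ C) (hn : n ∈ NL C r) : c * n * c⁻¹ ∈ NL C r := by
  unfold NL at hn ⊢
  induction hn using Subgroup.closure_induction with
  | mem x hx =>
    obtain ⟨d, hd, rfl⟩ := hx
    exact subset_closure ⟨c * d, mul_mem hc hd, by group⟩
  | one => rw [mul_one, mul_inv_cancel]; exact one_mem _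
  | mul x y _ _ hx hy =>
    have e : c * (x * y) * c⁻¹ = c * x * c⁻¹ * (c * y * c⁻¹) := by group
    rw [e]
    exact mul_mem hx hy
  | inv x _ hx =>
    have e : c * x⁻¹ * c⁻¹ = (c * x * c⁻¹)⁻¹ := by group
    rw [e]
    exact inv_mem hx

/-- all light vectors of the line are conjugate -/
theorem pr_conj {i j k l : ι} (hij : i ≠ j) (hkl : k ≠ l) : ∃ c ∈ C, ε (pr k l) = c * ε (pr i j) * c⁻¹ := by
  obtain ⟨σ, h1, h2⟩ : ∃ σ : Equiv.Perm ι, σ i = k ∧ σ j = l := by
    refine ⟨Equiv.swap (Equiv.swap i k j) l * Equiv.swap i k, ?_, ?_⟩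
    · rw [Equiv.Perm.mul_apply, Equiv.swap_apply_left, Equiv.swap_apply_of_ne_of_ne _ hkl]
      intro e
      have e1 : Equiv.swap i k i = k := Equiv.swap_apply_left _ _
      exact hij ((Equiv.swap i k).injective (e1.trans e))
    · rw [Equiv.Perm.mul_apply, Equiv.swap_apply_left]
  obtain ⟨n, hn, hσ⟩ := h.sym σ
  exact ⟨n, hn, by rw [act_pr hσ, h1, h2]⟩

theorem pr_mem_NL {i j k l : ι} (hij : i ≠ j) (hkl : k ≠ l) : ε (pr k l) ∈ NL C (ε (pr i j)) := by
  obtain ⟨c, hc, e⟩ := h.pr_conj hij hkl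
  exact subset_closure ⟨c, hc, e⟩

/-- `K` normal in `C`, `K ^ 2 ≤ C(N)` ⟹ `K ≤ C(N)` -/
theorem o2_NL [Finite G] {i j : ι} (hij : i ≠ j) {K : Subgroup G} (hK : K ≤ C)
    (hn : ∀ c ∈ C, ∀ k ∈ K, c * k * c⁻¹ ∈ K)
    (h2 : ∀ k ∈ K, ∀ n ∈ NL C (ε (pr i j)), k * k * n = n * (k * k)) :
    ∀ k ∈ K, ∀ n ∈ NL C (ε (pr i j)), k * n = n * k := by
  have hf : Fact (Nat.Prime 2) := ⟨Nat.prime_two⟩
  obtain ⟨T, hTC, hT2, hTi, hTa⟩ := h.syl
  -- the permutations induced by `K`
  let T' : Subgroup (Equiv.Perm ι) :=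
    { carrier := {σ | ∃ k ∈ K, Act ε k σ}
      one_mem' := ⟨1, one_mem _, act_one⟩
      mul_mem' := by
        rintro σ τ ⟨k, hk, h1⟩ ⟨l, hl, h3⟩
        exact ⟨k * l, mul_mem hk hl, act_mul h1 h3⟩
      inv_mem' := by
        rintro σ ⟨k, hk, h1⟩
        exact ⟨k⁻¹, inv_mem hk, act_inv h1⟩ }
  have hT' : ∀ t ∈ T', t = 1 := by
    refine sym_trivial (by have := h.card; omega) ?_ ?_
    · rintro σ ⟨k, hk, h1⟩
      refine h.act_eq_one (act_mul h1 h1) fun a b hab => ?_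
      rw [mul_inv_eq_iff_eq_mul]
      exact h2 k hk _ (h.pr_mem_NL hij hab)
    · rintro σ ⟨k, hk, h1⟩ s
      obtain ⟨n, hn', hs⟩ := h.sym s
      exact ⟨n * k * n⁻¹, hn n hn' k hk, act_mul (act_mul hs h1) (act_inv hs)⟩
  -- `K = C_K(N) (K ∩ T)`
  let S' : Sylow 2 C := (hT2.comap_of_injective _ C.subtype_injective : IsPGroup 2 (T.subgroupOf C)).toSylow hTi
  let D : Subgroup G := C ⊓ centralizer (NL C (ε (pr i j)) : Set G)
  have hD : ∀ c ∈ C, ∀ d ∈ D, c * d * c⁻¹ ∈ D := by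
    intro c hc d hd
    obtain ⟨hd1, hd2⟩ := Subgroup.mem_inf.1 hd
    refine Subgroup.mem_inf.2 ⟨mul_mem (mul_mem hc hd1) (inv_mem hc), ?_⟩
    rw [mem_centralizer_iff] at hd2 ⊢
    intro n hn'
    have h3 := hd2 (c⁻¹ * n * c) (by
      have := NL_nor (inv_mem hc) hn'
      rwa [inv_inv] at this)
    calc n * (c * d * c⁻¹) = c * (c⁻¹ * n * c * d) * c⁻¹ := by group
      _ = c * (d * (c⁻¹ * n * c)) * c⁻¹ := by rw [h3]
      _ = _ := by group
  have h6 : (K.subgroupOf C).Normal := ⟨by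
    rintro ⟨k, hk⟩ hk' ⟨c, hc⟩
    exact hn c hc k hk'⟩
  have h7 : (D.subgroupOf C).Normal := ⟨by
    rintro ⟨k, hk⟩ hk' ⟨c, hc⟩
    exact hD c hc k hk'⟩
  have h8 := Lib.SylowNormalInf.le_sup_inf S' (K.subgroupOf C) (D.subgroupOf C) (by
    rintro ⟨k, hk⟩ hk'
    refine ⟨1, ?_⟩
    rw [mem_subgroupOf]
    refine Subgroup.mem_inf.2 ⟨pow_mem hk _, ?_⟩
    rw [mem_centralizer_iff]
    intro n hn'
    have := h2 k hk' n hn'
    simpa [pow_two] using this.symm)
  -- `K` centralises `x_ij`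
  have h9 : ∀ k ∈ K, k * ε (pr i j) = ε (pr i j) * k := by
    intro k hk
    obtain ⟨c, hc, s, hs, hcs⟩ := Subgroup.mem_sup_of_normal_left.1
      (h8 (show (⟨k, hK hk⟩ : C) ∈ K.subgroupOf C from hk))
    have hs1 : (s : G) ∈ T := hs.1
    have hs2 : (s : G) ∈ K := hs.2
    have hc1 : (c : G) ∈ D := hc
    have h10 : (c : G) * s = k := congrArg Subtype.val hcs
    have e1 : (c : G) * ε (pr i j) = ε (pr i j) * c :=
      (mem_centralizer_iff.1 hc1.2 _ (h.pr_mem_NL hij hij)).symm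
    obtain ⟨σ, hσ⟩ := hTa _ hs1
    have hσ1 : σ = 1 := hT' σ ⟨s, hs2, hσ⟩
    have e2 : (s : G) * ε (pr i j) = ε (pr i j) * s := by
      have h11 := act_pr hσ i j
      rw [hσ1, Equiv.Perm.one_apply, Equiv.Perm.one_apply, mul_inv_eq_iff_eq_mul] at h11
      exact h11
    rw [← h10, mul_assoc, e2, ← mul_assoc, e1, mul_assoc]
  intro k hk n hn'
  unfold NL at hn'
  induction hn' using Subgroup.closure_induction with
  | mem x hx =>
    obtain ⟨c, hc, rfl⟩ := hx
    have h3 := h9 _ (hn c⁻¹ (inv_mem hc) k hk)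
    rw [inv_inv] at h3
    calc k * (c * ε (pr i j) * c⁻¹) = c * (c⁻¹ * k * c * ε (pr i j)) * c⁻¹ := by group
      _ = c * (ε (pr i j) * (c⁻¹ * k * c)) * c⁻¹ := by rw [h3]
      _ = _ := by group
  | one => rw [mul_one, one_mul]
  | mul x y _ _ hx hy => rw [← mul_assoc, hx, mul_assoc, hy, mul_assoc]
  | inv x _ hx =>
    have h3 : Commute k x := hx
    exact h3.inv_right

/-- The group data of THEOREM TV. -/
theorem gsys [Finite G] {i j : ι} (hij : i ≠ j) : GSys C (NL C (ε (pr i j))) (ε (pr i j)) where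
  sq := fun x hx => h.sq x (h.NL_le hx)
  nor := fun c hc n hn => NL_nor hc hn
  mem := h.pr_mem_NL hij hij
  ne := fun e => h.pr_ne_zero hij (h.inj _ e)
  gen := le_rfl
  chain := by
    intro U hU hUC c hc h1 h2 n hn
    have hsq := fun x hx => h.sq x (h.NL_le (i := i) (j := j) hx)
    let K : Subgroup G :=
      { carrier := {c | c ∈ C ∧ (∀ u ∈ U, c * u * c⁻¹ = u) ∧ ∀ n ∈ NL C (ε (pr i j)), c * n * c⁻¹ * n⁻¹ ∈ U}
        one_mem' := ⟨one_mem _, fun u _ => by group, fun n _ => by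
          have e : (1 : G) * n * 1⁻¹ * n⁻¹ = 1 := by group
          rw [e]
          exact one_mem _⟩
        mul_mem' := by
          rintro c d ⟨hc, h1, h2⟩ ⟨hd, h3, h4⟩
          refine ⟨mul_mem hc hd, fun u hu => ?_, fun n hn => ?_⟩
          · have e : c * d * u * (c * d)⁻¹ = c * (d * u * d⁻¹) * c⁻¹ := by group
            rw [e, h3 u hu, h1 u hu]
          · have e : c * d * n * (c * d)⁻¹ * n⁻¹ = c * (d * n * d⁻¹ * n⁻¹) * c⁻¹ * (c * n * c⁻¹ * n⁻¹) := by
              group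
            rw [e, h1 _ (h4 n hn)]
            exact mul_mem (h4 n hn) (h2 n hn)
        inv_mem' := by
          rintro c ⟨hc, h1, h2⟩
          have h3 : ∀ u ∈ U, c⁻¹ * u * c⁻¹⁻¹ = u := fun u hu => by
            have h5 := h1 u hu
            calc c⁻¹ * u * c⁻¹⁻¹ = c⁻¹ * (c * u * c⁻¹) * c := by rw [h5]; group
              _ = u := by group
          refine ⟨inv_mem hc, h3, fun n hn => ?_⟩
          have e : c⁻¹ * n * c⁻¹⁻¹ * n⁻¹ = (c⁻¹ * (c * n * c⁻¹ * n⁻¹) * c⁻¹⁻¹)⁻¹ := by group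
          rw [e, h3 _ (h2 n hn)]
          exact inv_mem (h2 n hn) }
    refine mul_inv_eq_iff_eq_mul.2 (h.o2_NL hij (K := K) (fun c hc => hc.1) ?_ ?_ c ⟨hc, h1, h2⟩ n hn)
    · rintro c hc k ⟨hk, h3, h4⟩
      refine ⟨mul_mem (mul_mem hc hk) (inv_mem hc), fun u hu => ?_, fun n hn => ?_⟩
      · have h5 := h3 _ (hUC c⁻¹ (inv_mem hc) u hu)
        calc c * k * c⁻¹ * u * (c * k * c⁻¹)⁻¹ = c * (k * (c⁻¹ * u * c⁻¹⁻¹) * k⁻¹) * c⁻¹ := by group
          _ = c * (c⁻¹ * u * c⁻¹⁻¹) * c⁻¹ := by rw [h5]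
          _ = u := by group
      · have h5 := h4 _ (NL_nor (inv_mem hc) hn)
        have h6 := hUC c hc _ h5
        have e : c * k * c⁻¹ * n * (c * k * c⁻¹)⁻¹ * n⁻¹ =
            c * (k * (c⁻¹ * n * c⁻¹⁻¹) * k⁻¹ * (c⁻¹ * n * c⁻¹⁻¹)⁻¹) * c⁻¹ := by group
        rw [e]
        exact h6
    · rintro k ⟨hk, h3, h4⟩ n hn
      set v := k * n * k⁻¹ * n⁻¹ with hv
      have hvU := h4 n hn
      have e1 : k * n * k⁻¹ = v * n := by rw [hv]; group
      have e2 : k * k * n * (k * k)⁻¹ = n := by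
        calc k * k * n * (k * k)⁻¹ = k * (k * n * k⁻¹) * k⁻¹ := by simp only [mul_inv_rev, mul_assoc]
          _ = k * (v * n) * k⁻¹ := by rw [e1]
          _ = k * v * k⁻¹ * (k * n * k⁻¹) := by group
          _ = v * (v * n) := by rw [h3 v hvU, e1]
          _ = v * v * n := (mul_assoc _ _ _).symm
          _ = n := by rw [hsq v (hU hvU), one_mul]
      exact mul_inv_eq_iff_eq_mul.1 e2

/-- The transvection moves a light vector. -/
theorem moves {i j : ι} {τ : G} (hτ : τ ∈ C)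
    (hw : ∀ x ∈ W, τ * x * τ⁻¹ = x ∨ τ * x * τ⁻¹ = x * ε (pr i j)) (hne : τ ∉ centralizer (W : Set G)) (hij : i ≠ j) :
    ∃ n ∈ NL C (ε (pr i j)), τ * n * τ⁻¹ ≠ n := by
  by_contra hcon
  push Not at hcon
  set N := NL C (ε (pr i j)) with hN
  let K : Subgroup G :=
    { carrier := {c | c ∈ C ∧ (∀ u ∈ N, c * u * c⁻¹ = u) ∧ ∀ n ∈ W, c * n * c⁻¹ * n⁻¹ ∈ N}
      one_mem' := ⟨one_mem _, fun u _ => by group, fun n _ => by
        have e : (1 : G) * n * 1⁻¹ * n⁻¹ = 1 := by group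
        rw [e]
        exact one_mem _⟩
      mul_mem' := by
        rintro c d ⟨hc, h1, h2⟩ ⟨hd, h3, h4⟩
        refine ⟨mul_mem hc hd, fun u hu => ?_, fun n hn => ?_⟩
        · have e : c * d * u * (c * d)⁻¹ = c * (d * u * d⁻¹) * c⁻¹ := by group
          rw [e, h3 u hu, h1 u hu]
        · have e : c * d * n * (c * d)⁻¹ * n⁻¹ = c * (d * n * d⁻¹ * n⁻¹) * c⁻¹ * (c * n * c⁻¹ * n⁻¹) := by
            group
          rw [e, h1 _ (h4 n hn)]
          exact mul_mem (h4 n hn) (h2 n hn)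
      inv_mem' := by
        rintro c ⟨hc, h1, h2⟩
        have h3 : ∀ u ∈ N, c⁻¹ * u * c⁻¹⁻¹ = u := fun u hu => by
          have h5 := h1 u hu
          calc c⁻¹ * u * c⁻¹⁻¹ = c⁻¹ * (c * u * c⁻¹) * c := by rw [h5]; group
            _ = u := by group
        refine ⟨inv_mem hc, h3, fun n hn => ?_⟩
        have e : c⁻¹ * n * c⁻¹⁻¹ * n⁻¹ = (c⁻¹ * (c * n * c⁻¹ * n⁻¹) * c⁻¹⁻¹)⁻¹ := by group
        rw [e, h3 _ (h2 n hn)]
        exact inv_mem (h2 n hn) }
  have hnor : ∀ c ∈ C, ∀ k ∈ K, c * k * c⁻¹ ∈ K := by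
    rintro c hc k ⟨hk, h3, h4⟩
    refine ⟨mul_mem (mul_mem hc hk) (inv_mem hc), fun u hu => ?_, fun n hn => ?_⟩
    · have h5 := h3 _ (NL_nor (inv_mem hc) hu)
      calc c * k * c⁻¹ * u * (c * k * c⁻¹)⁻¹ = c * (k * (c⁻¹ * u * c⁻¹⁻¹) * k⁻¹) * c⁻¹ := by group
        _ = c * (c⁻¹ * u * c⁻¹⁻¹) * c⁻¹ := by rw [h5]
        _ = u := by group
    · have h5 := h4 _ (h.nor _ (inv_mem hc) n hn)
      have h6 := NL_nor hc h5
      have e : c * k * c⁻¹ * n * (c * k * c⁻¹)⁻¹ * n⁻¹ =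
          c * (k * (c⁻¹ * n * c⁻¹⁻¹) * k⁻¹ * (c⁻¹ * n * c⁻¹⁻¹)⁻¹) * c⁻¹ := by group
      rw [e]
      exact h6
  have h1 := h.o2 K (fun c hc => hc.1) (by
    intro c hc
    rw [mem_normalizer_iff]
    intro k
    refine ⟨fun hk => hnor c hc k hk, fun hk => ?_⟩
    have h3 := hnor _ (inv_mem hc) _ hk
    have e : c⁻¹ * (c * k * c⁻¹) * c⁻¹⁻¹ = k := by group
    rwa [e] at h3) (by
    rintro k ⟨hk, h3, h4⟩
    refine ⟨1, ?_⟩
    rw [pow_one, pow_two, mem_centralizer_iff]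
    intro n hn
    set v := k * n * k⁻¹ * n⁻¹ with hv
    have hvU := h4 n hn
    have e1 : k * n * k⁻¹ = v * n := by rw [hv]; group
    have e2 : k * k * n * (k * k)⁻¹ = n := by
      calc k * k * n * (k * k)⁻¹ = k * (k * n * k⁻¹) * k⁻¹ := by simp only [mul_inv_rev, mul_assoc]
        _ = k * (v * n) * k⁻¹ := by rw [e1]
        _ = k * v * k⁻¹ * (k * n * k⁻¹) := by group
        _ = v * (v * n) := by rw [h3 v hvU, e1]
        _ = v * v * n := (mul_assoc _ _ _).symm
        _ = n := by rw [h.sq v (h.NL_le hvU), one_mul]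
    exact (mul_inv_eq_iff_eq_mul.1 e2).symm)
  refine hne (h1 ⟨hτ, hcon, fun n hn => ?_⟩)
  rcases hw n hn with e | e
  · rw [e, mul_inv_cancel]
    exact one_mem _
  · have e3 : n * ε (pr i j) * n⁻¹ = ε (pr i j) := by
      rw [EA.comm_of h.sq hn (h.mem (pr i j))]
      group
    rw [e, e3]
    exact h.pr_mem_NL hij hij

/-- The family of the light vectors of the line `V ^ r`. -/
theorem fam [Finite G] {i j : ι} (hij : i ≠ j) {r : G} (hr : r ∈ C) :
    Fam (h.gsys hij).rep (h.gsys hij).pts (fun k l => if hkl : k = l then 0 else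
      EA.mk (h.gsys hij).sq (r * ε (pr k l) * r⁻¹) (NL_nor hr (h.pr_mem_NL hij hkl))) := by
  classical
  set g := h.gsys hij with hg
  have hval : ∀ k l, (if hkl : k = l then (0 : EA _ g.sq) else
      EA.mk g.sq (r * ε (pr k l) * r⁻¹) (NL_nor hr (h.pr_mem_NL hij hkl))).val = r * ε (pr k l) * r⁻¹ := by
    intro k l
    by_cases hkl : k = l
    · rw [dif_pos hkl, hkl, pr_self, h.one, EA.val_zero]
      group
    · rw [dif_neg hkl, EA.val_mk]
  have hcj : ∀ a b : ι → ZMod 2, r * ε a * r⁻¹ * (r * ε b * r⁻¹) = r * ε (a + b) * r⁻¹ := by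
    intro a b
    rw [h.add]
    group
  have hpt : ∀ (v : EA _ g.sq) (a : ι → ZMod 2), v.val = r * ε a * r⁻¹ → v ∈ g.pts → ∃ k l, k ≠ l ∧ a = pr k l := by
    rintro v a hv ⟨c, hc, e⟩
    rw [hv] at e
    refine h.fus (r⁻¹ * c) (mul_mem (inv_mem hr) hc) i j hij a ?_
    calc r⁻¹ * c * ε (pr i j) * (r⁻¹ * c)⁻¹ = r⁻¹ * (c * ε (pr i j) * c⁻¹) * r := by group
      _ = _ := by rw [← e]; group
  -- the number of ones of `pr k l` is at most two
  have hpr : ∀ k l p : ι, pr k l p = 1 → p = k ∨ p = l := by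
    intro k l p hp
    by_contra hcon
    push Not at hcon
    unfold pr at hp
    rw [Pi.add_apply, Pi.single_eq_of_ne hcon.1, Pi.single_eq_of_ne hcon.2, add_zero] at hp
    exact zero_ne_one hp
  refine { self := ?_, add := ?_, mem := ?_, four := ?_, six := ?_, perm := ?_, fix := ?_, even := h.even,
           card := h.card }
  · intro k
    exact dif_pos rfl
  · intro k l p
    apply EA.ext
    rw [EA.val_add, hval, hval, hval, hcj, pr_add]
  · intro k l hkl
    rw [dif_neg hkl]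
    obtain ⟨c, hc, e⟩ := h.pr_conj hij hkl
    refine ⟨r * c, mul_mem hr hc, ?_⟩
    rw [EA.val_mk, e]
    group
  · intro a b c d h1 h2 h3 h4 h5 h6 hmem
    obtain ⟨k, l, -, e⟩ := hpt _ (pr a b + pr c d) (by rw [EA.val_add, hval, hval, hcj]) hmem
    have key : ∀ p, (pr a b + pr c d) p = 1 → p = k ∨ p = l := fun p hp => hpr k l p (by rw [← e, hp])
    have ka := key a (by unfold pr; simp [h1, h2, h3])
    have kb := key b (by unfold pr; simp [h1.symm, h4, h5])
    have kc := key c (by unfold pr; simp [h2.symm, h4.symm, h6])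
    rcases ka with ka | ka <;> rcases kb with kb | kb <;> rcases kc with kc | kc <;>
      first
      | exact h1 (ka.trans kb.symm)
      | exact h2 (ka.trans kc.symm)
      | exact h4 (kb.trans kc.symm)
  · intro a b c d a' b' hnd hmem
    simp only [List.nodup_cons, List.mem_cons, List.not_mem_nil, or_false, not_or, not_false_eq_true,
      List.nodup_nil, and_true] at hnd
    obtain ⟨⟨h1, h2, h3, h4, h5⟩, ⟨g1, g2, g3, g4⟩, ⟨f1, f2, f3⟩, ⟨e1, e2⟩, d1⟩ := hnd
    obtain ⟨k, l, -, e⟩ := hpt _ (pr a b + pr c d + pr a' b')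
      (by rw [EA.val_add, EA.val_add, hval, hval, hval, hcj, hcj]) hmem
    have key : ∀ p, (pr a b + pr c d + pr a' b') p = 1 → p = k ∨ p = l := fun p hp => hpr k l p (by rw [← e, hp])
    have ka := key a (by unfold pr; simp [h1, h2, h3, h4, h5])
    have kb := key b (by unfold pr; simp [Ne.symm h1, g1, g2, g3, g4])
    have kc := key c (by unfold pr; simp [Ne.symm h2, Ne.symm g1, f1, f2, f3])
    rcases ka with ka | ka <;> rcases kb with kb | kb <;> rcases kc with kc | kc <;>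
      first
      | exact h1 (ka.trans kb.symm)
      | exact h2 (ka.trans kc.symm)
      | exact g1 (kb.trans kc.symm)
  · intro σ
    obtain ⟨n, hn, hσ⟩ := h.sym σ
    refine ⟨⟨r * n * r⁻¹, mul_mem (mul_mem hr hn) (inv_mem hr)⟩, fun k l => ?_⟩
    apply EA.ext
    rw [g.val_rep, hval, hval, ← act_pr hσ]
    group
  · intro k c
    have hsum : ∀ s : Finset ι, (∑ l ∈ s, (if hkl : k = l then (0 : EA _ g.sq) else
        EA.mk g.sq (r * ε (pr k l) * r⁻¹) (NL_nor hr (h.pr_mem_NL hij hkl)))).val =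
        r * ε (∑ l ∈ s, pr k l) * r⁻¹ := by
      intro s
      induction s using Finset.induction_on with
      | empty =>
        rw [Finset.sum_empty, Finset.sum_empty, h.one, EA.val_zero]
        group
      | insert a s ha ih =>
        rw [Finset.sum_insert ha, Finset.sum_insert ha, EA.val_add, ih, hval, hcj]
    have hone : ∑ l, pr k l = 1 := by
      unfold pr
      rw [Finset.sum_add_distrib, Finset.sum_const, Finset.card_univ]
      have h1 : ∑ l : ι, (Pi.single l 1 : ι → ZMod 2) = 1 := Finset.univ_sum_single (1 : ι → ZMod 2)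
      rw [h1]
      obtain ⟨m, hm⟩ := h.even
      have h2 : Fintype.card ι • (Pi.single k 1 : ι → ZMod 2) = 0 := by
        rw [hm, add_smul]
        funext p
        rw [Pi.add_apply, Pi.zero_apply]
        exact CharTwo.add_self_eq_zero _
      rw [h2, zero_add]
    have hz : ∀ c ∈ C, c * ε 1 * c⁻¹ = ε 1 := fun c hc => mul_inv_eq_iff_eq_mul.2 (h.zf c hc)
    apply EA.ext
    rw [g.val_rep, hsum, hone, hz r hr, hz _ c.2]

/-- **THEOREM (T), light centre**: an element of `C` acting on `W` as a transvection with light centre centralises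
`W`. -/
theorem no_light [Finite G] {i j : ι} (hij : i ≠ j) {τ : G} (hτ : τ ∈ C)
    (hw : ∀ x ∈ W, τ * x * τ⁻¹ = x ∨ τ * x * τ⁻¹ = x * ε (pr i j)) : τ ∈ centralizer (W : Set G) := by
  classical
  by_contra hne
  have hm := h.moves hτ hw hne hij
  set g := h.gsys hij with hg
  have hS := g.toSys hτ (fun n hn => hw n (h.NL_le hn)) hm
  obtain ⟨a, b, d, hab, had, hbd, r, hr, hrc, hd⟩ := h.mov
  have hW : Finite (EA (NL C (ε (pr i j))) g.sq) := inferInstance
  refine Light.no_light hS (h.fam hij (one_mem C)) (h.fam hij hr) hab had hbd ?_ ?_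
  · rw [dif_neg hab, dif_neg hab]
    apply EA.ext
    rw [EA.val_mk, EA.val_mk, hrc]
    group
  · intro k l hkl e
    rw [dif_neg had, dif_neg hkl] at e
    have e1 := congrArg EA.val e
    rw [EA.val_mk, EA.val_mk] at e1
    refine hd k l hkl ?_
    rw [← e1]
    group

end SitL

end Cfsg.Agent.Omega.NO3S.SN2.Light
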