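import Cfsg.Agent.Omega.NO3S.SN2.Light.Group
import Cfsg.Agent.Omega.NO3S.SN2.PathG
import Cfsg.Agent.Omega.S5.Syl

/-!
# THEOREM (T), light centre (helper408, OMEGA / SN.Two, #22394): instances

* `SitL.no_light_conj` : the centre may be any `C`-conjugate of `x_ij` (the second output of `SitG.path_two`);
* `mov_of`, `mov_of_Wij` : the field `mov`;
* `sitL` : `SitL` for `2 ^ m + 1 ≥ 9` letters (`EvenSet`), any `C` with `C_L(z) ≤ C ≤ C_G(z)`; only control of
  fusion (`ctl`), `O₂(C / C_C(W)) = 1` (`o2`) and one `r ∈ C_C(D_ij)` outside `N(V)` are used.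
-/

set_option autoImplicit false
set_option linter.unusedSectionVars false

namespace Cfsg.Agent.Omega.NO3S.SN2.Light

open Subgroup Module Cfsg.Agent.Omega.TV
open Cfsg.Agent.Omega.S5.Def Cfsg.Agent.Omega.S5.Syl

universe u w

section general

variable {G : Type u} [Group G] {ι : Type w} [DecidableEq ι] [Fintype ι] {C W : Subgroup G} {ε : (ι → ZMod 2) → G}

/-- The centre may be any `C`-conjugate of `x_ij`. -/
theorem SitL.no_light_conj [Finite G] (h : SitL C W ε) {i j : ι} (hij : i ≠ j) {τ c : G} (hτ : τ ∈ C) (hc : c ∈ C)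
    (hw : ∀ x ∈ W, τ * x * τ⁻¹ = x ∨ τ * x * τ⁻¹ = x * (c * ε (pr i j) * c⁻¹)) : τ ∈ centralizer (W : Set G) := by
  have h1 : c⁻¹ * τ * c ∈ centralizer (W : Set G) := by
    refine h.no_light hij (mul_mem (mul_mem (inv_mem hc) hτ) hc) fun x hx => ?_
    rcases hw _ (h.nor c hc x hx) with e | e
    · left
      calc c⁻¹ * τ * c * x * (c⁻¹ * τ * c)⁻¹ = c⁻¹ * (τ * (c * x * c⁻¹) * τ⁻¹) * c := by group
        _ = c⁻¹ * (c * x * c⁻¹) * c := by rw [e]
        _ = x := by group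
    · right
      calc c⁻¹ * τ * c * x * (c⁻¹ * τ * c)⁻¹ = c⁻¹ * (τ * (c * x * c⁻¹) * τ⁻¹) * c := by group
        _ = c⁻¹ * (c * x * c⁻¹ * (c * ε (pr i j) * c⁻¹)) * c := by rw [e]
        _ = x * ε (pr i j) := by group
  rw [mem_centralizer_iff] at h1 ⊢
  intro x hx
  have h2 := h1 (c⁻¹ * x * c) (by
    have := h.nor c⁻¹ (inv_mem hc) x hx
    rwa [inv_inv] at this)
  calc x * τ = c * (c⁻¹ * x * c * (c⁻¹ * τ * c)) * c⁻¹ := by group
    _ = c * (c⁻¹ * τ * c * (c⁻¹ * x * c)) * c⁻¹ := by rw [h2]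
    _ = τ * x := by group

theorem pr_left {i j : ι} (hij : i ≠ j) : pr i j i = 1 := by
  unfold pr
  rw [Pi.add_apply, Pi.single_eq_same, Pi.single_eq_of_ne hij, add_zero]

theorem pr_right {i j : ι} (hij : i ≠ j) : pr i j j = 1 := by
  unfold pr
  rw [Pi.add_apply, Pi.single_eq_same, Pi.single_eq_of_ne (Ne.symm hij), zero_add]

theorem pr_off {i j k : ι} (h1 : k ≠ i) (h2 : k ≠ j) : pr i j k = 0 := by
  unfold pr
  rw [Pi.add_apply, Pi.single_eq_of_ne h1, Pi.single_eq_of_ne h2, add_zero]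

/-- The field `mov` from an element of `C_C(D_ab)` outside `N(V)`. -/
theorem mov_of (add : ∀ x y, ε (x + y) = ε x * ε y) (hcard : 3 ≤ Fintype.card ι) {a b : ι} (hab : a ≠ b) {r : G}
    (hrC : r ∈ C) (hr : ∀ x : ι → ZMod 2, x a = x b → r * ε x = ε x * r) (hne : ∃ x, ∀ y, ε x ≠ r * ε y * r⁻¹) :
    ∃ a b d, a ≠ b ∧ a ≠ d ∧ b ≠ d ∧ ∃ r ∈ C, r * ε (pr a b) = ε (pr a b) * r ∧
      ∀ i j, i ≠ j → ε (pr a d) ≠ r * ε (pr i j) * r⁻¹ := by
  obtain ⟨d, hd⟩ : ∃ c, c ∉ ({a, b} : Finset ι) := by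
    by_contra hcon
    push Not at hcon
    have h4 : (Finset.univ : Finset ι) ⊆ {a, b} := fun l _ => hcon l
    have h5 := (Finset.card_le_card h4).trans Finset.card_le_two
    rw [Finset.card_univ] at h5
    omega
  simp only [Finset.mem_insert, Finset.mem_singleton, not_or] at hd
  refine ⟨a, b, d, hab, Ne.symm hd.1, Ne.symm hd.2, r, hrC, hr _ (by rw [pr_left hab, pr_right hab]), ?_⟩
  intro i j hij e
  obtain ⟨x, hx⟩ := hne
  by_cases h1 : x a = x b
  · refine hx x ?_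
    rw [hr x h1]
    group
  · -- `x = (x + pr a d) + pr a d`
    have h2 : (x + pr a d) a = (x + pr a d) b := by
      rw [Pi.add_apply, Pi.add_apply, pr_left (Ne.symm hd.1), pr_off (Ne.symm hab) (Ne.symm hd.2)]
      revert h1
      generalize x a = u
      generalize x b = v
      revert u v
      decide
    have h3 : x = (x + pr a d) + pr a d := by
      funext k
      rw [Pi.add_apply, Pi.add_apply, add_assoc, CharTwo.add_self_eq_zero, add_zero]
    refine hx ((x + pr a d) + pr i j) ?_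
    rw [add, ← mul_assoc, hr _ h2]
    calc ε x = ε ((x + pr a d) + pr a d) := by rw [← h3]
      _ = ε (x + pr a d) * ε (pr a d) := add _ _
      _ = ε (x + pr a d) * (r * ε (pr i j) * r⁻¹) := by rw [← e]
      _ = _ := by group

/-- The field `mov` from the field `ne` of `PathG.SitG`. -/
theorem mov_of_Wij [Finite G] (add : ∀ x y, ε (x + y) = ε x * ε y) (h0 : ε 0 = 1) (hinv : ∀ x, (ε x)⁻¹ = ε x)
    (hcard : 3 ≤ Fintype.card ι) {a b : ι} (hab : a ≠ b) (hne : ∃ u ∈ PathG.Wij C ε a b, ∀ x, u ≠ ε x) :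
    ∃ a b d, a ≠ b ∧ a ≠ d ∧ b ≠ d ∧ ∃ r ∈ C, r * ε (pr a b) = ε (pr a b) * r ∧
      ∀ i j, i ≠ j → ε (pr a d) ≠ r * ε (pr i j) * r⁻¹ := by
  by_contra hcon
  have hall : ∀ r ∈ PathG.XX C ε a b, ∀ x, ∃ y, ε x = r * ε y * r⁻¹ := by
    intro r hr
    by_contra hc
    push Not at hc
    have h1 := PathG.mem_XX.1 hr
    exact hcon (mov_of add hcard hab h1.1 h1.2 hc)
  obtain ⟨u, hu, hux⟩ := hne
  have key : ∀ u ∈ PathG.Wij C ε a b, ∃ x, u = ε x := by
    intro u hu
    unfold PathG.Wij at hu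
    induction hu using Subgroup.closure_induction with
    | mem x hx =>
      obtain ⟨r, hr, y, rfl⟩ := hx
      obtain ⟨y', hy'⟩ := hall r⁻¹ (inv_mem hr) y
      exact ⟨y', by rw [hy']; group⟩
    | one => exact ⟨0, h0.symm⟩
    | mul x y _ _ hx hy =>
      obtain ⟨x', rfl⟩ := hx
      obtain ⟨y', rfl⟩ := hy
      exact ⟨x' + y', (add _ _).symm⟩
    | inv x _ hx =>
      obtain ⟨x', rfl⟩ := hx
      exact ⟨x', hinv x'⟩
  obtain ⟨x, hx⟩ := key u hu
  exact hux x hx

end general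

/-! ### `2 ^ m + 1` letters -/

section even

variable {G : Type u} [Group G] {m : ℕ} {V L : Subgroup G} {ε : (Fin (2 ^ m + 1) → ZMod 2) → G}

/-- the labels without the letter `0` -/
def res (ε : (Fin (2 ^ m + 1) → ZMod 2) → G) : (Fin (2 ^ m) → ZMod 2) → G := fun a => ε (Fin.cons 0 a)

theorem cons_add (x y : Fin (2 ^ m) → ZMod 2) :
    (Fin.cons 0 (x + y) : Fin (2 ^ m + 1) → ZMod 2) = Fin.cons 0 x + Fin.cons 0 y := by
  funext k
  refine Fin.cases ?_ (fun j => ?_) k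
  · rw [Pi.add_apply, Fin.cons_zero, Fin.cons_zero, Fin.cons_zero, add_zero]
  · rw [Pi.add_apply, Fin.cons_succ, Fin.cons_succ, Fin.cons_succ, Pi.add_apply]

theorem cons_single (i : Fin (2 ^ m)) :
    (Fin.cons 0 (Pi.single i 1) : Fin (2 ^ m + 1) → ZMod 2) = Pi.single i.succ 1 := by
  funext k
  refine Fin.cases ?_ (fun j => ?_) k
  · rw [Fin.cons_zero, Pi.single_eq_of_ne (Fin.succ_ne_zero i).symm]
  · rw [Fin.cons_succ]
    by_cases h : j = i
    · subst h
      rw [Pi.single_eq_same, Pi.single_eq_same]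
    · rw [Pi.single_eq_of_ne h, Pi.single_eq_of_ne fun e => h (Fin.succ_injective _ e)]

theorem cons_pr (i j : Fin (2 ^ m)) :
    (Fin.cons 0 (pr i j) : Fin (2 ^ m + 1) → ZMod 2) = pr i.succ j.succ := by
  unfold pr
  rw [cons_add, cons_single, cons_single]

/-- `ε` has kernel `{0, 1}` -/
theorem ev_inj (ev : EvenSet (2 ^ m + 1) V L ε) {x y : Fin (2 ^ m + 1) → ZMod 2} (e : ε x = ε y) :
    x = y ∨ x = y + 1 := by
  have h1 : ε (x + y) = 1 := by
    rw [ev.add, e, ← ev.add, add_self]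
    exact (ev.ker 0).2 (Or.inl rfl)
  rcases (ev.ker _).1 h1 with h2 | h2
  · exact Or.inl (eq_of_add_eq_zero h2)
  · right
    calc x = x + y + y := by rw [add_assoc, add_self, add_zero]
      _ = y + 1 := by rw [h2]; exact add_comm _ _

theorem res_one (ev : EvenSet (2 ^ m + 1) V L ε) : res ε 1 = ε (Pi.single 0 1) := by
  have h1 : (Fin.cons 0 1 : Fin (2 ^ m + 1) → ZMod 2) = Pi.single 0 1 + 1 := by
    funext k
    refine Fin.cases ?_ (fun j => ?_) k
    · rw [Fin.cons_zero, Pi.add_apply, Pi.single_eq_same, Pi.one_apply]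
      decide
    · rw [Fin.cons_succ, Pi.add_apply, Pi.single_eq_of_ne (Fin.succ_ne_zero j), zero_add]
      rfl
  unfold res
  rw [h1, ev.add, (ev.ker 1).2 (Or.inr rfl), mul_one]

/-- elements acting as permutations which fix the letter `0` -/
theorem act_res {g : G} {σ : Equiv.Perm (Fin (2 ^ m + 1))} (hg : Acts ε g σ) (h0 : σ 0 = 0) :
    ∃ τ : Equiv.Perm (Fin (2 ^ m)), Act (res ε) g τ := by
  have hd : Equiv.Perm.decomposeFin.symm (Equiv.Perm.decomposeFin σ) = σ := Equiv.symm_apply_apply _ _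
  set pq := Equiv.Perm.decomposeFin σ with hpq
  obtain ⟨p, τ⟩ := pq
  have hp : p = 0 := by
    have h1 := Equiv.Perm.decomposeFin_symm_apply_zero p τ
    rw [hd, h0] at h1
    exact h1.symm
  subst hp
  refine ⟨τ, fun a => ?_⟩
  unfold res
  rw [hg]
  congr 1
  funext k
  rw [Function.comp_apply]
  have hs : ∀ j : Fin (2 ^ m), σ j.succ = (τ j).succ := by
    intro j
    rw [← hd, Equiv.Perm.decomposeFin_symm_apply_succ, Equiv.swap_self]
    rfl
  refine Fin.cases ?_ (fun j => ?_) k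
  · have h1 : σ.symm 0 = 0 := by rw [Equiv.symm_apply_eq, h0]
    rw [h1, Fin.cons_zero, Fin.cons_zero]
  · have h1 : σ.symm j.succ = (τ.symm j).succ := by rw [Equiv.symm_apply_eq, hs, Equiv.apply_symm_apply]
    rw [h1, Fin.cons_succ, Fin.cons_succ, Function.comp_apply]

theorem act_full (ev : EvenSet (2 ^ m + 1) V L ε) (σ : Equiv.Perm (Fin (2 ^ m))) :
    ∃ g ∈ L, g * ε (Pi.single 0 1) * g⁻¹ = ε (Pi.single 0 1) ∧ Act (res ε) g σ := by
  obtain ⟨g, hg, hσ⟩ := ev.full (Equiv.Perm.decomposeFin.symm (0, σ))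
  have h0 : Equiv.Perm.decomposeFin.symm (0, σ) 0 = 0 := Equiv.Perm.decomposeFin_symm_apply_zero 0 σ
  have h1 := hσ.single 0
  rw [h0] at h1
  refine ⟨g, hg, h1, fun a => ?_⟩
  unfold res
  rw [hσ]
  congr 1
  funext k
  rw [Function.comp_apply]
  set τ := Equiv.Perm.decomposeFin.symm (0, σ) with hτ
  have hs : ∀ j : Fin (2 ^ m), τ j.succ = (σ j).succ := by
    intro j
    rw [hτ, Equiv.Perm.decomposeFin_symm_apply_succ, Equiv.swap_self]
    rfl
  refine Fin.cases ?_ (fun j => ?_) k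
  · have h1 : τ.symm 0 = 0 := by rw [Equiv.symm_apply_eq, h0]
    rw [h1, Fin.cons_zero, Fin.cons_zero]
  · have h1 : τ.symm j.succ = (σ.symm j).succ := by rw [Equiv.symm_apply_eq, hs, Equiv.apply_symm_apply]
    rw [h1, Fin.cons_succ, Fin.cons_succ, Function.comp_apply]

theorem single_comp' {n : ℕ} (σ : Equiv.Perm (Fin n)) (i : Fin n) :
    (Pi.single i 1 : Fin n → ZMod 2) ∘ σ.symm = Pi.single (σ i) 1 := SitL.single_comp σ i

/-- a triple is not a point -/
theorem triple_ne (hm : 2 ≤ m) {a b c d : Fin (2 ^ m + 1)} (hab : a ≠ b) (hac : a ≠ c) (hbc : b ≠ c)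
    (e : (pr a b + Pi.single c 1 : Fin (2 ^ m + 1) → ZMod 2) = Pi.single d 1 ∨
      (pr a b + Pi.single c 1 : Fin (2 ^ m + 1) → ZMod 2) = Pi.single d 1 + 1) : False := by
  classical
  rcases e with e | e
  · have ha := congrFun e a
    have hb := congrFun e b
    rw [Pi.add_apply, pr_left hab, Pi.single_eq_of_ne hac, add_zero] at ha
    rw [Pi.add_apply, pr_right hab, Pi.single_eq_of_ne hbc, add_zero] at hb
    have h1 : a = d := by
      by_contra hne
      rw [Pi.single_eq_of_ne hne] at ha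
      exact one_ne_zero ha
    have h2 : b = d := by
      by_contra hne
      rw [Pi.single_eq_of_ne hne] at hb
      exact one_ne_zero hb
    exact hab (h1.trans h2.symm)
  · obtain ⟨l, hl⟩ : ∃ l, l ∉ ({a, b, c, d} : Finset (Fin (2 ^ m + 1))) := by
      by_contra hcon
      push Not at hcon
      have h4 : (Finset.univ : Finset (Fin (2 ^ m + 1))) ⊆ {a, b, c, d} := fun l _ => hcon l
      have h5 := (Finset.card_le_card h4).trans Finset.card_le_four
      rw [Finset.card_univ, Fintype.card_fin] at h5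
      have : 2 ^ 2 ≤ 2 ^ m := Nat.pow_le_pow_right (by norm_num) hm
      omega
    simp only [Finset.mem_insert, Finset.mem_singleton, not_or] at hl
    have h1 := congrFun e l
    rw [Pi.add_apply, Pi.add_apply, pr_off hl.1 hl.2.1, Pi.single_eq_of_ne hl.2.2.1, Pi.single_eq_of_ne hl.2.2.2,
      Pi.one_apply, add_zero, zero_add] at h1
    exact zero_ne_one h1

/-- `L` controls fusion in `V`: the conjugates of `x_ij` under `C_G(z)` in `V` are the `x_kl`, `k, l ≠ 0`. -/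
theorem fus (hm : 2 ≤ m) (ev : EvenSet (2 ^ m + 1) V L ε)
    (ctl : ∀ v ∈ V, ∀ g : G, g * v * g⁻¹ ∈ V → ∃ k ∈ L, k * v * k⁻¹ = g * v * g⁻¹) {c : G}
    (hc : c * ε (Pi.single 0 1) = ε (Pi.single 0 1) * c) {i j : Fin (2 ^ m)} (hij : i ≠ j)
    {a : Fin (2 ^ m) → ZMod 2} (e : c * res ε (pr i j) * c⁻¹ = res ε a) : ∃ k l, k ≠ l ∧ a = pr k l := by
  classical
  have hij' : i.succ ≠ j.succ := fun h => hij (Fin.succ_injective _ h)
  unfold res at e
  rw [cons_pr] at e
  obtain ⟨k, hk, hk1⟩ := ctl _ (ev.mem (pr i.succ j.succ)) c (by rw [e]; exact ev.mem _)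
  obtain ⟨σ, hσ⟩ := ev.perm k hk
  rw [hσ, e, SitL.pr_comp] at hk1
  have hpq : σ i.succ ≠ σ j.succ := fun h => hij' (σ.injective h)
  rcases ev_inj ev hk1 with h1 | h1
  · have h0 := congrFun h1 0
    rw [Fin.cons_zero] at h0
    have hp : σ i.succ ≠ 0 := fun h => by
      rw [← h, pr_left hpq] at h0
      exact one_ne_zero h0
    have hq : σ j.succ ≠ 0 := fun h => by
      rw [← h, pr_right hpq] at h0
      exact one_ne_zero h0
    obtain ⟨p, hp'⟩ := Fin.exists_succ_eq.2 hp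
    obtain ⟨q, hq'⟩ := Fin.exists_succ_eq.2 hq
    refine ⟨p, q, fun h => hpq (by rw [← hp', ← hq', h]), ?_⟩
    rw [← hp', ← hq', ← cons_pr] at h1
    funext t
    have h2 := congrFun h1 t.succ
    rw [Fin.cons_succ, Fin.cons_succ] at h2
    exact h2.symm
  · exfalso
    -- `{p, q}` contains `0`
    have h0 := congrFun h1 0
    rw [Pi.add_apply, Fin.cons_zero, Pi.one_apply, zero_add] at h0
    have hor : σ i.succ = 0 ∨ σ j.succ = 0 := by
      by_contra hcon
      push Not at hcon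
      rw [pr_off (Ne.symm hcon.1) (Ne.symm hcon.2)] at h0
      exact zero_ne_one h0
    -- `c x_ij z c⁻¹ = z_q`
    have h2 : ∃ q, q ≠ 0 ∧ ε (pr (σ i.succ) (σ j.succ)) * ε (Pi.single 0 1) = ε (Pi.single q 1) := by
      rcases hor with h | h
      · refine ⟨σ j.succ, fun h' => hpq (h.trans h'.symm), ?_⟩
        rw [← ev.add, h]
        congr 1
        unfold pr
        rw [add_comm (Pi.single 0 1) _, add_assoc, add_self, add_zero]
      · refine ⟨σ i.succ, fun h' => hpq (h'.trans h.symm), ?_⟩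
        rw [← ev.add, h]
        congr 1
        unfold pr
        rw [add_assoc, add_self, add_zero]
    obtain ⟨q, -, hq⟩ := h2
    have h3 : c * ε (pr i.succ j.succ + Pi.single 0 1) * c⁻¹ = ε (Pi.single q 1) := by
      rw [ev.add]
      calc c * (ε (pr i.succ j.succ) * ε (Pi.single 0 1)) * c⁻¹ =
          c * ε (pr i.succ j.succ) * c⁻¹ * (c * ε (Pi.single 0 1)) * c⁻¹ := by group
        _ = c * ε (pr i.succ j.succ) * c⁻¹ * ε (Pi.single 0 1) := by rw [hc]; group
        _ = _ := by rw [e, ← hk1, hq]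
    obtain ⟨k', hk', hk1'⟩ := ctl _ (ev.mem (pr i.succ j.succ + Pi.single 0 1)) c (by rw [h3]; exact ev.mem _)
    obtain ⟨σ', hσ'⟩ := ev.perm k' hk'
    rw [h3, hσ', Pi.add_comp, SitL.pr_comp, single_comp'] at hk1'
    exact triple_ne hm (fun h => hij' (σ'.injective h)) (fun h => Fin.succ_ne_zero _ (σ'.injective h))
      (fun h => Fin.succ_ne_zero _ (σ'.injective h)) (ev_inj ev hk1')

/-- **The instance.** -/
theorem sitL [Finite G] (S : Sylow 2 G) (hm : 3 ≤ m) (ev : EvenSet (2 ^ m + 1) V L ε) (SL : (S : Subgroup G) ≤ L)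
    (f0 : Fix0 ε (S : Subgroup G))
    (ctl : ∀ v ∈ V, ∀ g : G, g * v * g⁻¹ ∈ V → ∃ k ∈ L, k * v * k⁻¹ = g * v * g⁻¹) {C W : Subgroup G}
    (hLC : ∀ g ∈ L, g * ε (Pi.single 0 1) * g⁻¹ = ε (Pi.single 0 1) → g ∈ C)
    (hC : ∀ c ∈ C, c * ε (Pi.single 0 1) = ε (Pi.single 0 1) * c) (sq : ∀ x ∈ W, x * x = 1)
    (nor : ∀ c ∈ C, ∀ w ∈ W, c * w * c⁻¹ ∈ W) (VW : V ≤ W)
    (o2 : ∀ K ≤ C, C ≤ normalizer (K : Set G) → (∀ g ∈ K, ∃ k : ℕ, g ^ 2 ^ k ∈ centralizer (W : Set G)) →
      K ≤ centralizer (W : Set G))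
    (mov : ∃ a b : Fin (2 ^ m), a ≠ b ∧ ∃ r ∈ C, (∀ x : Fin (2 ^ m) → ZMod 2, x a = x b →
      r * res ε x = res ε x * r) ∧ ∃ x, ∀ y, res ε x ≠ r * res ε y * r⁻¹) : SitL C W (res ε) := by
  have h8 : 2 ^ 3 ≤ 2 ^ m := Nat.pow_le_pow_right (by norm_num) hm
  have hSC : (S : Subgroup G) ≤ C := by
    intro s hs
    refine hLC s (SL hs) ?_
    obtain ⟨σ, hσ⟩ := ev.perm s (SL hs)
    have h1 := hσ.single 0
    rwa [f0 s hs σ hσ] at h1
  have hadd : ∀ x y, res ε (x + y) = res ε x * res ε y := fun x y => by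
    unfold res
    rw [cons_add, ev.add]
  refine { sq := sq, nor := nor, add := hadd, mem := ?_, inj := ?_, sym := ?_, zf := ?_, o2 := o2, syl := ?_,
           fus := ?_, even := ?_, card := ?_, mov := ?_ }
  · exact fun x => VW (ev.mem _)
  · intro x hx
    unfold res at hx
    rcases (ev.ker _).1 hx with h1 | h1
    · funext k
      have h2 := congrFun h1 k.succ
      rw [Fin.cons_succ] at h2
      exact h2
    · have h2 := congrFun h1 0
      rw [Fin.cons_zero] at h2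
      exact absurd h2 zero_ne_one
  · intro σ
    obtain ⟨g, hg, h1, h2⟩ := act_full ev σ
    exact ⟨g, hLC g hg h1, h2⟩
  · intro c hc
    rw [res_one ev]
    exact hC c hc
  · refine ⟨S, hSC, S.isPGroup', ?_, ?_⟩
    · intro hd
      have h1 : ¬ 2 ∣ (S : Subgroup G).index := S.not_dvd_index
      exact h1 (hd.trans (Subgroup.relIndex_dvd_index_of_le hSC))
    · intro t ht
      obtain ⟨σ, hσ⟩ := ev.perm t (SL ht)
      exact act_res hσ (f0 t ht σ hσ)
  · intro c hc i j hij a e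
    exact fus (by omega) ev ctl (hC c hc) hij e
  · rw [Fintype.card_fin]
    exact ⟨2 ^ (m - 1), by rw [← two_mul, ← pow_succ']; congr 1; omega⟩
  · rw [Fintype.card_fin]
    omega
  · obtain ⟨a, b, hab, r, hr, hr1, hr2⟩ := mov
    exact mov_of hadd (by rw [Fintype.card_fin]; omega) hab hr hr1 hr2

end even

end Cfsg.Agent.Omega.NO3S.SN2.Light
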