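import Cfsg.Agent.Omega.NO3S.SN2.Light.Inst
import Cfsg.Agent.Omega.NO3S.SN.HT.Grp

/-!
# THEOREM (T), light centre (helper408, OMEGA / SN.Two, #22394): stage `-1`, `C = C_G(z)`, `W = U_z`
-/

set_option autoImplicit false

namespace Cfsg.Agent.Omega.NO3S.SN2.Light

open Subgroup Module Cfsg Cfsg.Agent.ZN Cfsg.Agent.Omega.MinPar Cfsg.Agent.Omega.Frame
open Cfsg.Agent.Omega.FrameNOFF
open Cfsg.Agent.MinSimple.VModule
open Cfsg.Agent.Omega.S5.Def Cfsg.Agent.Omega.S5.Syl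
open Cfsg.Agent.Omega.NSix.Base Cfsg.Agent.Omega.NSix.Basic
open Cfsg.Agent.Omega.NO3S.SN

universe u

variable {G : Type u} [Group G] [Finite G] {S : Sylow 2 G} {P : Subgroup G} {m : ℕ}
  {ε : (Fin (2 ^ m + 1) → ZMod 2) → G}

/-- `SitL` for `C_G(z)` on `U_z` (stage `-1`). -/
theorem sitL_SN (hs : SN.Hyp S P m ε) (h : NSix.CaseJ.Base.Hyp S P ε)
    (mov : ∃ a b : Fin (2 ^ m), a ≠ b ∧ ∃ r ∈ Cn (pt ε 0), (∀ x : Fin (2 ^ m) → ZMod 2, x a = x b →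
      r * res ε x = res ε x * r) ∧ ∃ x, ∀ y, res ε x ≠ r * res ε y * r⁻¹) :
    SitL (Cn (pt ε 0)) (HT.Grp.Uz S P ε) (res ε) := by
  refine sitL S hs.m3 (NSix.Norm.evenSet' h.hm S h.ev h.SP h.fix0) (h.SP.trans h.ev.le_normalizer) h.fix0
    (fun v hv g hg => NSix.CaseJ.Fus.control h hs.m3 hv hg) (fun g _ hg => mem_Cn'.2 hg) ?_ (HT.Grp.sqU hs)
    HT.Grp.norU (HT.Grp.VU hs) (fun K hK hn h2 => hs.o2_trivial hK hn h2) mov
  intro c hc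
  exact mul_inv_eq_iff_eq_mul.1 (mem_Cn'.1 hc)

/-- **(T)**, stage `-1`: no element of `C_G(z)` acts on `U_z` as a transvection whose centre is a `C_G(z)`-conjugate
of `x_ij`, `i, j ≠ 0`. -/
theorem no_light_SN (hs : SN.Hyp S P m ε) (h : NSix.CaseJ.Base.Hyp S P ε)
    (mov : ∃ a b : Fin (2 ^ m), a ≠ b ∧ ∃ r ∈ Cn (pt ε 0), (∀ x : Fin (2 ^ m) → ZMod 2, x a = x b →
      r * res ε x = res ε x * r) ∧ ∃ x, ∀ y, res ε x ≠ r * res ε y * r⁻¹)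
    {i j : Fin (2 ^ m)} (hij : i ≠ j) {τ c : G} (hτ : τ ∈ Cn (pt ε 0)) (hc : c ∈ Cn (pt ε 0))
    (hw : ∀ x ∈ HT.Grp.Uz S P ε, τ * x * τ⁻¹ = x ∨
      τ * x * τ⁻¹ = x * (c * (pt ε i.succ * pt ε j.succ) * c⁻¹)) :
    τ ∈ centralizer (HT.Grp.Uz S P ε : Set G) := by
  refine (sitL_SN hs h mov).no_light_conj hij hτ hc fun x hx => ?_
  have h1 : res ε (pr i j) = pt ε i.succ * pt ε j.succ := by
    unfold res
    rw [cons_pr]
    unfold pr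
    rw [h.ev.add]
  rw [h1]
  exact hw x hx

end Cfsg.Agent.Omega.NO3S.SN2.Light
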