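import Cfsg.Agent.Omega.TV.Big
import Cfsg.Agent.Omega.TV.Form

/-!
# THEOREM (T), light centre (helper408, OMEGA / SN.Two): pure part

`Om` is an orbit of centres of transvections (`TV.Sys`), `x i j` (`i, j` letters) are the light vectors of a line:
`x i j + x j k = x i k`, all permutations of the letters are induced, sums of two or three disjoint `x i j` are not in
`Om`, `∑ i, x i₀ i` is fixed; the number of letters is even and at least `8`.

* `Lt.eps_zero` **(C)** : `f (x i j) (x i k) = 0` is impossible;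
* `Lt.type` **(D)** : the functional `f c` is `0` on the `x i j`, or that of some `x a b`;
* `Lt.eq_x` **(E)** : in the second case `c = x a b`;
* `no_light` **(F)** : two such families `x`, `x'` with `x' a b = x a b` and `x a d` not an `x' i j` do not exist.
-/

set_option autoImplicit false

namespace Cfsg.Agent.Omega.NO3S.SN2.Light

open Module Cfsg.Agent.Omega.TV

variable {W : Type*} [AddCommGroup W] [Module (ZMod 2) W] {ι : Type*}

theorem v_eq {v w : W} (e : v + w = 0) : v = w := v_eq_of_add e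

/-- The common part. -/
structure Lp (Om : Set W) (f : W →ₗ[ZMod 2] W →ₗ[ZMod 2] ZMod 2) (x : ι → ι → W) : Prop where
  comm : ∀ u v, f u v = f v u
  alt : ∀ u, f u u = 0
  refl : ∀ p ∈ Om, ∀ q ∈ Om, f p q = 1 → q + p ∈ Om
  self : ∀ i, x i i = 0
  add : ∀ i j k, x i j + x j k = x i k
  mem : ∀ i j, i ≠ j → x i j ∈ Om
  four : ∀ i j k l, i ≠ j → i ≠ k → i ≠ l → j ≠ k → j ≠ l → k ≠ l → x i j + x k l ∉ Om

namespace Lp

variable {Om : Set W} {f : W →ₗ[ZMod 2] W →ₗ[ZMod 2] ZMod 2} {x : ι → ι → W} (h : Lp Om f x)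

include h

theorem symm (i j : ι) : x i j = x j i := v_eq (by rw [h.add, h.self])

/-- `x i j + x i k = x j k` -/
theorem add' (i j k : ι) : x i j + x i k = x j k := by rw [h.symm i j, h.add]

/-- disjoint pairs are orthogonal -/
theorem ort {i j k l : ι} (h1 : i ≠ j) (h2 : i ≠ k) (h3 : i ≠ l) (h4 : j ≠ k) (h5 : j ≠ l) (h6 : k ≠ l) :
    f (x i j) (x k l) = 0 := by
  refine z2_ne_one fun e => ?_
  have h7 := h.refl _ (h.mem i j h1) _ (h.mem k l h6) e
  rw [add_comm] at h7
  exact h.four i j k l h1 h2 h3 h4 h5 h6 h7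

theorem add_x {c : W} (hc : c ∈ Om) {i j : ι} (hij : i ≠ j) (e : f c (x i j) = 1) : c + x i j ∈ Om :=
  h.refl _ (h.mem i j hij) _ hc (by rw [h.comm, e])

theorem ne_of_one {c : W} {i j : ι} (e : f c (x i j) = 1) : i ≠ j := by
  rintro rfl
  rw [h.self, map_zero] at e
  exact zero_ne_one e

/-- **(C)**, one letter separated by `c` from three others -/
theorem three (h0 : ∀ i j k, i ≠ j → i ≠ k → j ≠ k → f (x i j) (x i k) = 0) {c : W} (hc : c ∈ Om)
    {i j k m : ι} (hjk : j ≠ k) (hjm : j ≠ m) (hkm : k ≠ m) (ej : f c (x i j) = 1) (ek : f c (x i k) = 1)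
    (em : f c (x i m) = 1) : False := by
  have hij := h.ne_of_one ej
  have hik := h.ne_of_one ek
  have him := h.ne_of_one em
  have ha : c + x i j ∈ Om := h.add_x hc hij ej
  have hb : c + x i k ∈ Om := h.add_x hc hik ek
  have hab : f (c + x i k) (c + x i j) = 0 := by
    simp only [map_add, LinearMap.add_apply, h.alt, h.comm (x i k) c, ej, ek, h0 i k j hik hij hjk.symm]
    decide
  have h1 : f (c + x i j) (x i m) = 1 := by
    rw [map_add, LinearMap.add_apply, em, h0 i j m hij him hjm, add_zero]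
  have h2 := h.refl _ ha _ (h.mem i m him) h1
  have h3 : f (c + x i k) (x i m + (c + x i j)) = 1 := by
    rw [map_add, hab, map_add, LinearMap.add_apply, em, h0 i k m hik him hkm, add_zero, add_zero]
  have h4 := h.refl _ hb _ h2 h3
  have e1 : x i m + (c + x i j) + (c + x i k) = x i m + x j k := by
    rw [← h.add' i j k]
    calc x i m + (c + x i j) + (c + x i k) = x i m + (x i j + x i k) + (c + c) := by abel
      _ = x i m + (x i j + x i k) := by rw [v_add_self, add_zero]
  rw [e1] at h4
  exact h.four i m j k him hij hik hjm.symm hkm.symm hjk h4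

/-- **(C)** -/
theorem eps_zero [Fintype ι] (h0 : ∀ i j k, i ≠ j → i ≠ k → j ≠ k → f (x i j) (x i k) = 0)
    (h8 : 8 ≤ Fintype.card ι) {c : W} (hc : c ∈ Om) {a b : ι} (e : f c (x a b) = 1) : False := by
  classical
  have key : ∀ i : ι, (Finset.univ.filter fun k => f c (x i k) = 1).card ≤ 2 := by
    intro i
    by_contra hcon
    push Not at hcon
    obtain ⟨j, hj, k, hk, m, hm, hjk, hjm, hkm⟩ := Finset.two_lt_card.1 hcon
    exact h.three h0 hc hjk hjm hkm (Finset.mem_filter.1 hj).2 (Finset.mem_filter.1 hk).2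
      (Finset.mem_filter.1 hm).2
  have hun : (Finset.univ : Finset ι) ⊆ (Finset.univ.filter fun k => f c (x a k) = 1) ∪
      (Finset.univ.filter fun k => f c (x b k) = 1) := by
    intro k _
    rw [Finset.mem_union, Finset.mem_filter, Finset.mem_filter]
    have h1 : f c (x a k) + f c (x b k) = 1 := by
      rw [← map_add, h.symm b k, h.symm a k, h.add' k a b, e]
    rcases z2 (f c (x a k)) with e1 | e1
    · rw [e1, zero_add] at h1
      exact Or.inr ⟨Finset.mem_univ _, h1⟩
    · exact Or.inl ⟨Finset.mem_univ _, e1⟩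
  have h2 := (Finset.card_le_card hun).trans (Finset.card_union_le _ _)
  rw [Finset.card_univ] at h2
  have h3 := key a
  have h4 := key b
  omega

end Lp

open Classical in
/-- indicator of `{a, b}` -/
noncomputable def chi (a b i : ι) : ZMod 2 := if i = a ∨ i = b then 1 else 0

theorem chi_left (a b : ι) : chi a b a = 1 := if_pos (Or.inl rfl)

theorem chi_right (a b : ι) : chi a b b = 1 := if_pos (Or.inr rfl)

theorem chi_of_ne {a b i : ι} (h1 : i ≠ a) (h2 : i ≠ b) : chi a b i = 0 :=
  if_neg fun h => h.elim h1 h2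

theorem of_chi {a b i : ι} (h : chi a b i = 1) : i = a ∨ i = b := by
  by_contra hcon
  push Not at hcon
  rw [chi_of_ne hcon.1 hcon.2] at h
  exact zero_ne_one h

/-- The situation with `ε = 1`. -/
structure Lt [Fintype ι] (Om : Set W) (f : W →ₗ[ZMod 2] W →ₗ[ZMod 2] ZMod 2) (x : ι → ι → W) : Prop
    extends Lp Om f x where
  one : ∀ i j k, i ≠ j → i ≠ k → j ≠ k → f (x i j) (x i k) = 1
  six : ∀ i j k l m n, [i, j, k, l, m, n].Nodup → x i j + x k l + x m n ∉ Om
  ev : ∀ p ∈ Om, ∀ i, ∑ j, f p (x i j) = 0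
  nrc : ∀ p ∈ Om, ∀ q ∈ Om, (∀ y ∈ Om, f p y = f q y) → p = q
  even : Even (Fintype.card ι)
  card : 8 ≤ Fintype.card ι

namespace Lt

variable [Fintype ι] {Om : Set W} {f : W →ₗ[ZMod 2] W →ₗ[ZMod 2] ZMod 2} {x : ι → ι → W} (h : Lt Om f x)

include h

/-- the form on the light vectors -/
theorem xx {a b : ι} (hab : a ≠ b) (i j : ι) : f (x a b) (x i j) = chi a b i + chi a b j := by
  have hx := h.toLp
  by_cases hij : i = j
  · subst hij
    rw [hx.self, map_zero, z2_add_self]
  by_cases h1 : i = a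
  · subst h1
    rw [chi_left]
    by_cases h2 : j = b
    · subst h2
      rw [chi_right, hx.alt]
      decide
    · rw [chi_of_ne (Ne.symm hij) h2, add_zero]
      exact h.one _ _ _ hab hij (Ne.symm h2)
  by_cases h2 : i = b
  · subst h2
    rw [chi_right]
    by_cases h3 : j = a
    · subst h3
      rw [chi_left, hx.symm, hx.alt]
      decide
    · rw [chi_of_ne h3 (Ne.symm hij), add_zero, hx.symm a i]
      exact h.one _ _ _ (Ne.symm hab) hij (Ne.symm h3)
  rw [chi_of_ne h1 h2, zero_add]
  by_cases h3 : j = a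
  · subst h3
    rw [chi_left, hx.symm i j]
    exact h.one _ _ _ hab (Ne.symm hij) (Ne.symm h2)
  by_cases h4 : j = b
  · subst h4
    rw [chi_right, hx.symm i j, hx.symm a j]
    exact h.one _ _ _ (Ne.symm hab) (Ne.symm hij) (Ne.symm h1)
  rw [chi_of_ne h3 h4]
  exact hx.ort hab (Ne.symm h1) (Ne.symm h3) (Ne.symm h2) (Ne.symm h4) hij

/-- **(D)** -/
theorem type {c : W} (hc : c ∈ Om) : (∀ i j, f c (x i j) = 0) ∨
    ∃ a b, a ≠ b ∧ ∀ i j, f c (x i j) = chi a b i + chi a b j := by
  classical
  have hx := h.toLp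
  have hne : Nonempty ι := Fintype.card_pos_iff.1 (by have := h.card; omega)
  obtain ⟨i0⟩ := hne
  set g : ι → ZMod 2 := fun i => f c (x i0 i) with hg
  have hgg : ∀ i j, f c (x i j) = g i + g j := by
    intro i j
    rw [hg, ← hx.add' i0 i j, map_add]
  set J : Finset ι := Finset.univ.filter fun i => g i = 1 with hJ
  set J' : Finset ι := Finset.univ.filter fun i => ¬ g i = 1 with hJ'
  have hcard : J.card + J'.card = Fintype.card ι := by
    rw [hJ, hJ', Finset.card_filter_add_card_filter_not]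
    rfl
  have hJev : Even J.card := by
    have h1 := h.ev c hc i0
    have h2 : ∑ j, f c (x i0 j) = (J.card : ZMod 2) := by
      rw [hJ, Finset.card_filter, Nat.cast_sum]
      refine Finset.sum_congr rfl fun j _ => ?_
      rcases z2 (f c (x i0 j)) with e | e
      · rw [e, if_neg]
        · rfl
        · simp only [hg]
          rw [e]
          exact zero_ne_one
      · rw [e, if_pos]
        · rfl
        · exact e
    rw [h2] at h1
    exact (ZMod.natCast_eq_zero_iff_even).1 h1
  have hN := h.card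
  have hNe := h.even
  have hmem : ∀ i, i ∈ J ↔ g i = 1 := fun i => by rw [hJ, Finset.mem_filter]; simp
  have hmem' : ∀ i, i ∈ J' ↔ g i = 0 := fun i => by
    rw [hJ', Finset.mem_filter]
    constructor
    · rintro ⟨_, e⟩
      exact z2_ne_one e
    · intro e
      refine ⟨Finset.mem_univ _, ?_⟩
      rw [e]
      exact zero_ne_one
  have hbig : ¬ (2 < J.card ∧ 2 < J'.card) := by
    rintro ⟨h1, h2⟩
    obtain ⟨i, hi, k, hk, m, hm, hik, him, hkm⟩ := Finset.two_lt_card.1 h1
    obtain ⟨j, hj, l, hl, n, hn, hjl, hjn, hln⟩ := Finset.two_lt_card.1 h2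
    rw [hmem] at hi hk hm
    rw [hmem'] at hj hl hn
    have dis : ∀ {p q : ι}, g p = 1 → g q = 0 → p ≠ q := by
      rintro p q e1 e2 rfl
      rw [e1] at e2
      exact one_ne_zero e2
    have h3 : c + x i j ∈ Om := hx.add_x hc (dis hi hj) (by rw [hgg, hi, hj, add_zero])
    have e3 : f (x i j) (x k l) = 0 :=
      hx.ort (dis hi hj) hik (dis hi hl) (dis hk hj).symm hjl (dis hk hl)
    have e4 : f (x i j) (x m n) = 0 :=
      hx.ort (dis hi hj) him (dis hi hn) (dis hm hj).symm hjn (dis hm hn)
    have e5 : f (x k l) (x m n) = 0 :=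
      hx.ort (dis hk hl) hkm (dis hk hn) (dis hm hl).symm hln (dis hm hn)
    have h4 : c + x i j + x k l ∈ Om := hx.add_x h3 (dis hk hl) (by
      rw [map_add, LinearMap.add_apply, e3, hgg, hk, hl, add_zero, add_zero])
    have h5 : c + x i j + x k l + x m n ∈ Om := hx.add_x h4 (dis hm hn) (by
      rw [map_add, map_add, LinearMap.add_apply, LinearMap.add_apply, e4, e5, hgg, hm, hn, add_zero, add_zero,
        add_zero])
    have h6 := hx.refl _ hc _ h5 (by
      rw [map_add, map_add, map_add, hx.alt, hgg, hgg, hgg, hi, hj, hk, hl, hm, hn]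
      decide)
    have e6 : c + x i j + x k l + x m n + c = x i j + x k l + x m n := by
      calc c + x i j + x k l + x m n + c = x i j + x k l + x m n + (c + c) := by abel
        _ = _ := by rw [v_add_self, add_zero]
    rw [e6] at h6
    refine h.six i j k l m n ?_ h6
    simp only [List.nodup_cons, List.mem_cons, List.not_mem_nil, or_false, not_or, not_false_eq_true,
      List.nodup_nil, and_true]
    exact ⟨⟨dis hi hj, hik, dis hi hl, him, dis hi hn⟩, ⟨(dis hk hj).symm, hjl, (dis hm hj).symm, hjn⟩,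
      ⟨dis hk hl, hkm, dis hk hn⟩, ⟨(dis hm hl).symm, hln⟩, dis hm hn⟩
  have h01 : ∀ {p : ZMod 2}, p + 1 + (p + 1) = 0 := fun {p} => by revert p; decide
  obtain ⟨r, hr⟩ := hJev
  obtain ⟨s, hs⟩ := hNe
  by_cases c1 : 2 < J.card
  · have c2 : J'.card = 0 ∨ J'.card = 2 := by
      have : ¬ 2 < J'.card := fun e => hbig ⟨c1, e⟩
      omega
    rcases c2 with c2 | c2
    · left
      intro i j
      rw [Finset.card_eq_zero] at c2
      have h1 : ∀ i, g i = 1 := fun i => z2_ne_zero fun e => by
        have := (hmem' i).2 e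
        rw [c2] at this
        exact absurd this (Finset.notMem_empty _)
      rw [hgg, h1, h1]
      decide
    · right
      obtain ⟨a, b, hab, hJ2⟩ := Finset.card_eq_two.1 c2
      refine ⟨a, b, hab, fun i j => ?_⟩
      have h1 : ∀ i, g i = chi a b i + 1 := by
        intro i
        by_cases hi : i = a ∨ i = b
        · have : i ∈ J' := by
            rw [hJ2]
            simpa using hi
          rw [(hmem' i).1 this]
          have h2 : chi a b i = 1 := if_pos hi
          rw [h2]
          decide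
        · have h2 : chi a b i = 0 := if_neg hi
          rw [h2, zero_add]
          refine z2_ne_zero fun e => hi ?_
          have := (hmem' i).2 e
          rw [hJ2] at this
          simpa using this
      rw [hgg, h1, h1]
      calc chi a b i + 1 + (chi a b j + 1) = chi a b i + chi a b j + (1 + 1) := by ring
        _ = _ := by
          have : (1 : ZMod 2) + 1 = 0 := by decide
          rw [this, add_zero]
  · have c2 : J.card = 0 ∨ J.card = 2 := by omega
    rcases c2 with c2 | c2
    · left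
      intro i j
      rw [Finset.card_eq_zero] at c2
      have h1 : ∀ i, g i = 0 := fun i => z2_ne_one fun e => by
        have := (hmem i).2 e
        rw [c2] at this
        exact absurd this (Finset.notMem_empty _)
      rw [hgg, h1, h1, add_zero]
    · right
      obtain ⟨a, b, hab, hJ2⟩ := Finset.card_eq_two.1 c2
      refine ⟨a, b, hab, fun i j => ?_⟩
      have h1 : ∀ i, g i = chi a b i := by
        intro i
        by_cases hi : i = a ∨ i = b
        · have : i ∈ J := by
            rw [hJ2]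
            simpa using hi
          rw [(hmem i).1 this]
          exact (if_pos hi).symm
        · have h2 : chi a b i = 0 := if_neg hi
          rw [h2]
          refine z2_ne_one fun e => hi ?_
          have := (hmem i).2 e
          rw [hJ2] at this
          simpa using this
      rw [hgg, h1, h1]

/-- a letter outside a list of at most seven letters -/
theorem fresh (l : List ι) (hl : l.length ≤ 7) : ∃ i, i ∉ l := by
  classical
  by_contra hcon
  push Not at hcon
  have h1 : (Finset.univ : Finset ι) ⊆ l.toFinset := fun i _ => List.mem_toFinset.2 (hcon i)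
  have h2 := (Finset.card_le_card h1).trans l.toFinset_card_le
  rw [Finset.card_univ] at h2
  have := h.card
  omega

/-- all `x k l + (c + x a b)` are in `Om` -/
theorem all_mem {c : W} (hc : c ∈ Om) {a b : ι} (hab : a ≠ b)
    (ht : ∀ i j, f c (x i j) = chi a b i + chi a b j) {k l : ι} (hkl : k ≠ l) :
    x k l + (c + x a b) ∈ Om := by
  have hx := h.toLp
  -- one letter in common
  have one : ∀ a b, a ≠ b → (∀ i j, f c (x i j) = chi a b i + chi a b j) → ∀ l, l ≠ a →
      x a l + (c + x a b) ∈ Om := by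
    intro a b hab ht l hl
    by_cases hlb : l = b
    · subst hlb
      have e1 : x a l + (c + x a l) = c := by
        calc x a l + (c + x a l) = c + (x a l + x a l) := by abel
          _ = c := by rw [v_add_self, add_zero]
      rw [e1]
      exact hc
    · have e1 : x a l + (c + x a b) = c + x b l := by
        rw [← hx.add' a b l]
        abel
      rw [e1]
      exact hx.add_x hc (Ne.symm hlb) (by rw [ht, chi_right, chi_of_ne hl hlb, add_zero])
  have ht' : ∀ i j, f c (x i j) = chi b a i + chi b a j := by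
    intro i j
    have : ∀ i, chi a b i = chi b a i := by
      intro i
      by_cases hi : i = a ∨ i = b
      · have e1 : chi a b i = 1 := if_pos hi
        have e2 : chi b a i = 1 := if_pos hi.symm
        rw [e1, e2]
      · have e1 : chi a b i = 0 := if_neg hi
        have e2 : chi b a i = 0 := if_neg fun e => hi e.symm
        rw [e1, e2]
    rw [ht, this, this]
  by_cases h1 : k = a
  · subst h1
    exact one _ _ hab ht l (Ne.symm hkl)
  by_cases h2 : l = a
  · subst h2
    rw [hx.symm k l]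
    exact one _ _ hab ht k hkl
  by_cases h3 : k = b
  · subst h3
    rw [hx.symm a k]
    exact one _ _ (Ne.symm hab) ht' l (Ne.symm hkl)
  by_cases h4 : l = b
  · subst h4
    rw [hx.symm k l, hx.symm a l]
    exact one _ _ (Ne.symm hab) ht' k hkl
  have h5 : c + x a k ∈ Om := hx.add_x hc (Ne.symm h1) (by rw [ht, chi_left, chi_of_ne h1 h3, add_zero])
  have h6 : c + x a k + x b l ∈ Om := hx.add_x h5 (Ne.symm h4) (by
    rw [map_add, LinearMap.add_apply, ht, chi_right, chi_of_ne h2 h4, h.xx (Ne.symm h1),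
      chi_of_ne (Ne.symm hab) (Ne.symm h3), chi_of_ne h2 (Ne.symm hkl)]
    decide)
  have e1 : x k l + (c + x a b) = c + x a k + x b l := by
    have e2 : x k l = x k a + x a l := (hx.add k a l).symm
    have e3 : x b l = x b a + x a l := (hx.add b a l).symm
    rw [e2, e3, hx.symm k a, hx.symm b a]
    abel
  rw [e1]
  exact h6

/-- **(E1)** -/
theorem e1 {c : W} (hc : c ∈ Om) {a b : ι} (hab : a ≠ b)
    (ht : ∀ i j, f c (x i j) = chi a b i + chi a b j) {p : W} (hp : p ∈ Om) {a' b' : ι} (hab' : a' ≠ b')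
    (hp' : ∀ i j, f p (x i j) = chi a' b' i + chi a' b' j) : f p (c + x a b) = 0 := by
  refine z2_ne_one fun e => ?_
  have hx := h.toLp
  obtain ⟨k, hk⟩ := h.fresh [a', b'] (by simp)
  obtain ⟨l, hl⟩ := h.fresh [a', b', k] (by simp)
  simp only [List.mem_cons, List.not_mem_nil, or_false, not_or] at hk hl
  obtain ⟨hk1, hk2⟩ := hk
  obtain ⟨hl1, hl2, hl3⟩ := hl
  have h1 := h.all_mem hc hab ht (Ne.symm hl3)
  have h2 : f p (x k l + (c + x a b)) = 1 := by
    rw [map_add, e, hp', chi_of_ne hk1 hk2, chi_of_ne hl1 hl2, zero_add, zero_add]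
  have h3 := hx.refl _ hp _ h1 h2
  have he0 : ∀ i j, f (c + x a b) (x i j) = 0 := by
    intro i j
    rw [map_add, LinearMap.add_apply, ht, h.xx hab, z2_add_self]
  have hf : ∀ i j, f (x k l + (c + x a b) + p) (x i j) =
      (chi k l i + chi a' b' i) + (chi k l j + chi a' b' j) := by
    intro i j
    rw [map_add, LinearMap.add_apply, map_add, LinearMap.add_apply, he0, hp', h.xx (Ne.symm hl3), add_zero]
    ring
  rcases h.type h3 with h4 | ⟨u, v, huv, h4⟩
  · obtain ⟨i, hi⟩ := h.fresh [a', b', k, l] (by simp)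
    simp only [List.mem_cons, List.not_mem_nil, or_false, not_or] at hi
    have h5 := h4 i a'
    rw [hf, chi_of_ne hi.2.2.1 hi.2.2.2, chi_of_ne hi.1 hi.2.1, chi_of_ne (Ne.symm hk1) (Ne.symm hl1),
      chi_left] at h5
    revert h5
    decide
  · obtain ⟨i, hi⟩ := h.fresh [a', b', k, l, u, v] (by simp)
    simp only [List.mem_cons, List.not_mem_nil, or_false, not_or] at hi
    have h5 : ∀ j, chi k l j + chi a' b' j = chi u v j := by
      intro j
      have h6 := h4 i j
      rw [hf, chi_of_ne hi.2.2.1 hi.2.2.2.1, chi_of_ne hi.1 hi.2.1, chi_of_ne hi.2.2.2.2.1 hi.2.2.2.2.2,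
        zero_add, zero_add, zero_add] at h6
      exact h6
    have g1 := of_chi (a := u) (b := v) (i := a') (by
      rw [← h5, chi_of_ne (Ne.symm hk1) (Ne.symm hl1), chi_left, zero_add])
    have g2 := of_chi (a := u) (b := v) (i := b') (by
      rw [← h5, chi_of_ne (Ne.symm hk2) (Ne.symm hl2), chi_right, zero_add])
    have g3 := of_chi (a := u) (b := v) (i := k) (by
      rw [← h5, chi_left, chi_of_ne hk1 hk2, add_zero])
    rcases g1 with g1 | g1 <;> rcases g2 with g2 | g2 <;> rcases g3 with g3 | g3 <;> subst_vars <;>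
      simp_all

/-- **(E)** -/
theorem eq_x {c : W} (hc : c ∈ Om) {a b : ι} (hab : a ≠ b)
    (ht : ∀ i j, f c (x i j) = chi a b i + chi a b j) : c = x a b := by
  have hx := h.toLp
  refine h.nrc c hc _ (hx.mem a b hab) fun p hp => ?_
  by_contra hcon
  have he : f p (c + x a b) = 1 := by
    rw [map_add, hx.comm p c, hx.comm p (x a b)]
    rcases z2 (f c p) with e1 | e1 <;> rcases z2 (f (x a b) p) with e2 | e2
    · exact absurd (e1.trans e2.symm) hcon
    · rw [e1, e2, zero_add]
    · rw [e1, e2, add_zero]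
    · exact absurd (e1.trans e2.symm) hcon
  rcases h.type hp with h1 | ⟨a', b', hab', h1⟩
  · have h2 : f p c = 1 := by
      rw [map_add, h1, add_zero] at he
      exact he
    have h3 := hx.refl _ hp _ hc h2
    have h4 : ∀ i j, f (c + p) (x i j) = chi a b i + chi a b j := by
      intro i j
      rw [map_add, LinearMap.add_apply, h1, add_zero, ht]
    have h5 := h.e1 h3 hab h4 hc hab ht
    rw [map_add, map_add, hx.alt, zero_add, hx.comm c p, h2, ht, chi_left, chi_right] at h5
    revert h5
    decide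
  · rw [h.e1 hc hab ht hp hab' h1] at he
    exact zero_ne_one he

end Lt

/-! ### The family of light vectors in `TV.Sys` -/

variable {H : Type*} [Group H] {ρ : H →* (W ≃ₗ[ZMod 2] W)}

/-- The light vectors of a line. -/
structure Fam [Fintype ι] (ρ : H →* (W ≃ₗ[ZMod 2] W)) (Om : Set W) (x : ι → ι → W) : Prop where
  self : ∀ i, x i i = 0
  add : ∀ i j k, x i j + x j k = x i k
  mem : ∀ i j, i ≠ j → x i j ∈ Om
  four : ∀ i j k l, i ≠ j → i ≠ k → i ≠ l → j ≠ k → j ≠ l → k ≠ l → x i j + x k l ∉ Om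
  six : ∀ i j k l m n, [i, j, k, l, m, n].Nodup → x i j + x k l + x m n ∉ Om
  perm : ∀ σ : Equiv.Perm ι, ∃ g : H, ∀ i j, ρ g (x i j) = x (σ i) (σ j)
  fix : ∀ i (g : H), ρ g (∑ j, x i j) = ∑ j, x i j
  even : Even (Fintype.card ι)
  card : 8 ≤ Fintype.card ι

theorem near_conj {Om : Set W} (h : Sys ρ Om) {r s : W} (hn : Sys.Near ρ Om r s) (g : H) :
    Sys.Near ρ Om (ρ g r) (ρ g s) := by
  obtain ⟨v, hv, h1, h2⟩ := hn
  exact ⟨ρ g v, h.inv g v hv, h1.conj g, h2.conj g⟩

/-- a permutation with three given values -/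
theorem exists_perm3 {i j k i' j' k' : ι} (hij : i ≠ j) (hik : i ≠ k) (hjk : j ≠ k) (hij' : i' ≠ j') (hik' : i' ≠ k')
    (hjk' : j' ≠ k') : ∃ σ : Equiv.Perm ι, σ i = i' ∧ σ j = j' ∧ σ k = k' := by
  classical
  set s1 := Equiv.swap i i' with h1
  set j1 := s1 j with hj1
  have a1 : s1 i = i' := Equiv.swap_apply_left _ _
  have a2 : j1 ≠ i' := fun e => hij (s1.injective (a1.trans e.symm))
  set s2 := Equiv.swap j1 j' with h2
  set k1 := s2 (s1 k) with hk1
  have b1 : s2 i' = i' := Equiv.swap_apply_of_ne_of_ne a2.symm hij'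
  have b2 : s2 j1 = j' := Equiv.swap_apply_left _ _
  have c1 : k1 ≠ i' := fun e => hik (s1.injective (s2.injective (by rw [a1, b1]; exact e.symm)))
  have c2 : k1 ≠ j' := fun e => hjk (s1.injective (s2.injective (by rw [← hj1, b2]; exact e.symm)))
  set s3 := Equiv.swap k1 k' with h3
  refine ⟨s3 * s2 * s1, ?_, ?_, ?_⟩
  · rw [Equiv.Perm.mul_apply, Equiv.Perm.mul_apply, a1, b1]
    exact Equiv.swap_apply_of_ne_of_ne c1.symm hik'
  · rw [Equiv.Perm.mul_apply, Equiv.Perm.mul_apply, ← hj1, b2]
    exact Equiv.swap_apply_of_ne_of_ne c2.symm hjk'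
  · rw [Equiv.Perm.mul_apply, Equiv.Perm.mul_apply, ← hk1]
    exact Equiv.swap_apply_left _ _

namespace Fam

variable [Fintype ι] {Om : Set W} {x : ι → ι → W} (F : Fam ρ Om x)

include F

theorem symm (i j : ι) : x i j = x j i := v_eq (by rw [F.add, F.self])

theorem add' (i j k : ι) : x i j + x i k = x j k := by rw [F.symm i j, F.add]

theorem exists3 : ∃ i j k : ι, i ≠ j ∧ i ≠ k ∧ j ≠ k := by
  have h8 := F.card
  obtain ⟨i, j, k, h1, h2, h3⟩ := Fintype.two_lt_card_iff.1 (show 2 < Fintype.card ι by omega)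
  exact ⟨i, j, k, h1, h2, h3⟩

/-- **(A)** -/
theorem near3 [Finite W] (h : Sys ρ Om) {i j k : ι} (hij : i ≠ j) (hik : i ≠ k) (hjk : j ≠ k) :
    Sys.Near ρ Om (x i j) (x i k) := by
  have key : ∃ i j k : ι, i ≠ j ∧ i ≠ k ∧ j ≠ k ∧ Sys.Near ρ Om (x i j) (x i k) := by
    obtain ⟨i, j, k, h1, h2, h3⟩ := F.exists3
    obtain ⟨v, hv, hav⟩ := h.exists_adj (F.mem j k h3)
    obtain ⟨φ, hφ, e⟩ := h.symm (F.mem j k h3) hv hav
    rw [← F.add' i j k, map_add] at e
    rcases z2 (φ (x i j)) with e1 | e1
    · rw [e1, zero_add] at e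
      -- `v` is adjacent to `x i k` and `x j k`
      refine ⟨k, j, i, h3.symm, h2.symm, h1.symm, ?_⟩
      rw [F.symm k j, F.symm k i]
      exact ⟨v, hv, hav, φ, hφ, e⟩
    · refine ⟨j, k, i, h3, h1.symm, h2.symm, ?_⟩
      rw [F.symm j i]
      exact ⟨v, hv, hav, φ, hφ, e1⟩
  obtain ⟨i', j', k', h1, h2, h3, hn⟩ := key
  obtain ⟨σ, s1, s2, s3⟩ := exists_perm3 h1 h2 h3 hij hik hjk
  obtain ⟨g, hg⟩ := F.perm σ
  have h4 := near_conj h hn g
  rwa [hg, hg, s1, s2, s3] at h4

/-- **(B)** -/
theorem small [Finite W] (h : Sys ρ Om) : Sys.Small ρ Om := by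
  rcases h.small_or_big with hs | hb
  · exact hs
  exfalso
  have h8 := F.card
  obtain ⟨i, j, k, h1, h2, h3⟩ := F.exists3
  classical
  have hl : ∃ l, l ∉ ({i, j, k} : Finset ι) := by
    by_contra hcon
    push Not at hcon
    have h4 : (Finset.univ : Finset ι) ⊆ {i, j, k} := fun l _ => hcon l
    have h5 := (Finset.card_le_card h4).trans Finset.card_le_three
    rw [Finset.card_univ] at h5
    omega
  obtain ⟨l, hl⟩ := hl
  simp only [Finset.mem_insert, Finset.mem_singleton, not_or] at hl
  obtain ⟨l1, l2, l3⟩ := hl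
  have n1 := F.near3 h h1 h2 h3
  have n2 := F.near3 h h2.symm (Ne.symm l3) (Ne.symm l1)
  rw [F.symm k i] at n2
  have n3 := h.near_trans (F.mem i j h1) (F.mem i k h2) (F.mem k l (Ne.symm l3)) n1 n2
  have hne : x i j ≠ x k l := by
    intro e
    -- then `0 = x i j + x k l`, so `x i l + x k j = 0` …
    have n4 := F.four i j k l h1 h2 (Ne.symm l1) h3 (Ne.symm l2) (Ne.symm l3)
    have e1 : x i k = x j l := by
      have e2 : x i k + x j l = x i j + x k l := by
        rw [← F.add i j k, ← F.add k j l, F.symm j k]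
        calc x i j + x k j + x j l = x i j + (x k j + x j l) := by abel
          _ = _ := rfl
      rw [e, v_add_self] at e2
      exact v_eq e2
    have e3 : x i l = x i l + 0 := (add_zero _).symm
    -- a fifth letter
    obtain ⟨m, hm⟩ : ∃ m, m ∉ ({i, j, k, l} : Finset ι) := by
      by_contra hcon
      push Not at hcon
      have h4 : (Finset.univ : Finset ι) ⊆ {i, j, k, l} := fun l _ => hcon l
      have h5 := (Finset.card_le_card h4).trans Finset.card_le_four
      rw [Finset.card_univ] at h5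
      omega
    simp only [Finset.mem_insert, Finset.mem_singleton, not_or] at hm
    obtain ⟨m1, m2, m3, m4⟩ := hm
    obtain ⟨n, hn⟩ : ∃ n, n ∉ ({i, j, k, l, m} : Finset ι) := by
      by_contra hcon
      push Not at hcon
      have h4 : (Finset.univ : Finset ι) ⊆ {i, j, k, l, m} := fun l _ => hcon l
      have h5 := (Finset.card_le_card h4).trans Finset.card_le_five
      rw [Finset.card_univ] at h5
      omega
    simp only [Finset.mem_insert, Finset.mem_singleton, not_or] at hn
    obtain ⟨p1, p2, p3, p4, p5⟩ := hn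
    refine F.six i j k l m n ?_ ?_
    · simp only [List.nodup_cons, List.mem_cons, List.not_mem_nil, or_false, not_or, not_false_eq_true,
        List.nodup_nil, and_true]
      exact ⟨⟨h1, h2, Ne.symm l1, Ne.symm m1, Ne.symm p1⟩, ⟨h3, Ne.symm l2, Ne.symm m2, Ne.symm p2⟩,
        ⟨Ne.symm l3, Ne.symm m3, Ne.symm p3⟩, ⟨Ne.symm m4, Ne.symm p4⟩, Ne.symm p5⟩
    · rw [e, v_add_self, zero_add]
      exact F.mem m n (Ne.symm p5)
  have ha := h.adj_of_near hb (F.mem i j h1) (F.mem k l (Ne.symm l3)) hne n3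
  have h5 := h.add_mem (F.mem k l (Ne.symm l3)) ha
  rw [add_comm] at h5
  exact F.four i j k l h1 h2 (Ne.symm l1) h3 (Ne.symm l2) (Ne.symm l3) h5

variable {f : W →ₗ[ZMod 2] W →ₗ[ZMod 2] ZMod 2}

theorem lp (h : Sys ρ Om) (hf : Frm ρ Om f) : Lp Om f x where
  comm := hf.comm
  alt := hf.alt
  refl := fun p hp q hq e => by rw [add_comm]; exact hf.add_mem h hp hq e
  self := F.self
  add := F.add
  mem := F.mem
  four := F.four

/-- The form determines the light vectors of a line. -/
theorem lt [Finite W] (h : Sys ρ Om) (hf : Frm ρ Om f) : Lt Om f x := by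
  have hx := F.lp h hf
  have hall : ∀ i j k i' j' k' : ι, i ≠ j → i ≠ k → j ≠ k → i' ≠ j' → i' ≠ k' → j' ≠ k' →
      f (x i j) (x i k) = f (x i' j') (x i' k') := by
    intro i j k i' j' k' h1 h2 h3 h1' h2' h3'
    obtain ⟨σ, s1, s2, s3⟩ := exists_perm3 h1 h2 h3 h1' h2' h3'
    obtain ⟨g, hg⟩ := F.perm σ
    rw [← hf.inv g, hg, hg, s1, s2, s3]
  refine { hx with
    one := ?_
    six := F.six
    ev := ?_
    nrc := ?_
    even := F.even
    card := F.card }
  · intro i j k h1 h2 h3
    refine z2_ne_zero fun e => ?_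
    obtain ⟨v, hv, φ, hφ, e1⟩ := h.exists_adj (F.mem i j h1)
    have e2 : f (x i j) v = 1 := (hf.adj_iff (F.mem i j h1)).1 ⟨φ, hφ, e1⟩
    refine hx.eps_zero (fun i' j' k' h1' h2' h3' => ?_) F.card hv (a := i) (b := j) (by rw [hf.comm, e2])
    rw [hall i' j' k' i j k h1' h2' h3' h1 h2 h3, e]
  · intro p hp i
    rw [← map_sum]
    obtain ⟨_, g, hg⟩ := hf.fn p hp
    have e1 := hg (∑ j, x i j)
    rw [F.fix] at e1
    refine z2_ne_one fun e => ?_
    rw [e, one_smul] at e1
    exact h.ne_zero hp (by simpa using e1)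
  · intro p hp q hq e
    have e1 : f p = f q := LinearMap.ext_on h.span fun y hy => e y hy
    have h1 := hf.fn p hp
    have h2 := h1.addc (e1 ▸ hf.fn q hq)
    have h3 : p + q ∈ Sys.rad ρ Om := by
      intro r hr φ hφ
      by_cases h0 : φ = 0
      · rw [h0]; rfl
      rw [hf.uniq r hr φ h0 hφ, hf.comm, map_add, e1, LinearMap.add_apply, z2_add_self]
    exact v_eq (h.no_rad_centre hp h3 h1 h2 (hf.ne p hp))

end Fam

/-- **(F)** -/
theorem no_light [Finite W] [Fintype ι] {Om : Set W} (h : Sys ρ Om) {x x' : ι → ι → W} (F : Fam ρ Om x)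
    (F' : Fam ρ Om x') {a b d : ι} (hab : a ≠ b) (had : a ≠ d) (hbd : b ≠ d) (e : x' a b = x a b)
    (hne : ∀ i j, i ≠ j → x a d ≠ x' i j) : False := by
  obtain ⟨f, hf⟩ := h.exists_form (F.small h)
  have L := F.lt h hf
  have L' := F'.lt h hf
  rcases L'.type (F.mem a d had) with h1 | ⟨u, v, huv, h1⟩
  · have h2 := h1 a b
    rw [e, L.one a d b had hab (Ne.symm hbd)] at h2
    exact one_ne_zero h2
  · exact hne u v huv (L'.eq_x (F.mem a d had) huv h1)

end Cfsg.Agent.Omega.NO3S.SN2.Light
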